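import Groth.Agent.L20.DescLocus.AppIsoH0
import Groth.Agent.L20.DescLocus.Unit
import Groth.Agent.L17.BC.Flattening
import Groth.Agent.L22.Inter.Fga
import Groth.Agent.L03.Euler.Basic
import Groth.Agent.L08.Cube.FibreFun
import Groth.Agent.L26.AV.SmoothField

/-!
# The first higher direct image of the structure sheaf of a family of curves

For a proper flat finitely presented morphism whose fibres have dimension at most one and only constant
functions, the first higher direct image of the structure sheaf is finite locally free, of rank the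
dimension of the first cohomology of the fibres.
-/

set_option autoImplicit false
set_option linter.style.haveILetI false
set_option linter.unusedSectionVars false
set_option backward.isDefEq.respectTransparency false
set_option backward.isDefEq.respectTransparency.types false

universe u

open CategoryTheory AlgebraicGeometry TopologicalSpace
open Groth.L17 Groth.L17.BC Groth.L17.BC.Classes Groth.L20.DescLocus

noncomputable section

local notation "adj" => Scheme.Modules.pullbackPushforwardAdjunction

namespace Groth.L12.CurveFam

variable {X S : Scheme.{u}} (f : X ⟶ S) [IsProper f] [Flat f] [LocallyOfFinitePresentation f]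

/-- Cohomology above the dimension of a fibre vanishes. -/
theorem subsingleton_fiberH_of_dim {d : ℕ} (s : S) (hd : topologicalKrullDim ↥(f.fiber s) ≤ d)
    (F : X.Modules) {p : ℕ} (hp : d < p) : Subsingleton (CohIII.fiberH f F s p) := by
  haveI : LocallyOfFiniteType (f.fiberToSpecResidueField s) :=
    inferInstanceAs (LocallyOfFiniteType (Limits.pullback.snd f _))
  haveI : QuasiCompact (f.fiberToSpecResidueField s) :=
    inferInstanceAs (QuasiCompact (Limits.pullback.snd f _))
  haveI : IsLocallyNoetherian (f.fiber s) :=
    LocallyOfFiniteType.isLocallyNoetherian (f.fiberToSpecResidueField s)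
  haveI : CompactSpace ↥(f.fiber s) := QuasiCompact.compactSpace_of_compactSpace (f.fiberToSpecResidueField s)
  haveI : IsNoetherian (f.fiber s) := {}
  exact Groth.L22.Inter.subsingleton_HH_of_dim hd _ hp

/-- Fibrewise constant functions and one-dimensional fibres make the first higher direct image of the
structure sheaf locally free, of rank the fibre dimension. -/
theorem exists_free_Rpush_one [HasInjectiveResolutions X.Modules]
    (hq : ∀ (s : S) (U : (Spec (S.residueField s)).Opens), IsIso ((f.fiberToSpecResidueField s).app U))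
    (hd : ∀ s : S, topologicalKrullDim ↥(f.fiber s) ≤ 1) (y : S) :
    ∃ (U : S.Opens) (n : ℕ), y ∈ U ∧
      Nonempty (((Coh.Rpush f 1).obj (Coh.structureModule X)).restrict U.ι ≅ FlatMod.freeMod (↑U) n) ∧
      CohIII.fiberRank f (Coh.structureModule X) 1 y = n := by
  have hE : FlatMod.IsFinLocFree (Coh.structureModule X) :=
    Groth.L16.Existence.isFinLocFree_of_isInvertible (Groth.L18.Ample.isInvertible_structureModule _)
  have hfree' : FlatMod.IsFinLocFree (Coh.structureModule S) :=
    Groth.L16.Existence.isFinLocFree_of_isInvertible (Groth.L18.Ample.isInvertible_structureModule _)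
  have hfp : CohB1.IsFP (Coh.structureModule X) := Groth.L18.LFP.isFP_of_isFinLocFree _ hE
  haveI : Coh.IsQCoh (Coh.structureModule X) := Groth.L29.DC.PCQCoh.isQCoh_of_isFinLocFree hE
  have hfl : FlatMod.IsFlatOver f (Coh.structureModule X) := fun x => by
    letI := (f.stalkMap x).hom.toAlgebra
    letI := FlatMod.moduleStalkOver f (Coh.structureModule X) x
    haveI : IsScalarTower (S.presheaf.stalk (f x)) (X.presheaf.stalk x) ((Coh.structureModule X).presheaf.stalk x) :=
      IsScalarTower.of_algebraMap_smul fun _ _ => rfl
    haveI : Module.Flat (S.presheaf.stalk (f x)) (X.presheaf.stalk x) := Flat.stalkMap f x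
    haveI : Module.Flat (X.presheaf.stalk x) ((Coh.structureModule X).presheaf.stalk x) :=
      Groth.L29.DC.isFlat_of_isFinLocFree hE x
    exact Module.Flat.trans (S.presheaf.stalk (f x)) (X.presheaf.stalk x) ((Coh.structureModule X).presheaf.stalk x)
  let η := (adj f).unit.app (Coh.structureModule S)
  -- on fibres
  have hfib : ∀ s : S, IsIso ((Scheme.Modules.pullback (S.fromSpecResidueField s)).map η ≫
      CohBC.bc0 f (S.fromSpecResidueField s) (f.fiberToSpecResidueField s) (f.fiberι s) (f.fiber_fac s)
        ((Scheme.Modules.pullback f).obj (Coh.structureModule S))) := fun s => by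
    let q : f.fiber s ⟶ Spec (CommRingCat.of (S.residueField s)) := f.fiberToSpecResidueField s
    haveI := isIso_unit_structure q (hq s)
    haveI : IsIso ((adj q).unit.app ((Scheme.Modules.pullback (S.fromSpecResidueField s)).obj (Coh.structureModule S))) := by
      have h := (adj q).unit.naturality (Groth.L29.LocFree.pullbackUnitIso (S.fromSpecResidueField s)).hom
      simp only [Functor.id_map] at h
      exact IsIso.of_isIso_fac_right h.symm
    have h := unit_bc0 f (S.fromSpecResidueField s) q (f.fiberι s) (f.fiber_fac s) (Coh.structureModule S)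
    rw [← Category.assoc] at h
    exact IsIso.of_isIso_fac_right h
  let e : (Scheme.Modules.pullback f).obj (Coh.structureModule S) ≅ Coh.structureModule X :=
    Groth.L29.LocFree.pullbackUnitIso f
  have hepi : ∀ s : S, Epi (CohBC.bc0 f (S.fromSpecResidueField s) (f.fiberToSpecResidueField s) (f.fiberι s)
      (f.fiber_fac s) (Coh.structureModule X)) := fun s => by
    haveI := hfib s
    haveI : Epi (CohBC.bc0 f (S.fromSpecResidueField s) (f.fiberToSpecResidueField s) (f.fiberι s) (f.fiber_fac s)
        ((Scheme.Modules.pullback f).obj (Coh.structureModule S))) :=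
      epi_of_epi ((Scheme.Modules.pullback (S.fromSpecResidueField s)).map η) _
    have h := bc0_natural f (S.fromSpecResidueField s) (f.fiberToSpecResidueField s) (f.fiberι s) (f.fiber_fac s) e.hom
    exact epi_of_epi_fac h
  have hsp : ∀ {V : S.Opens} (hV : IsAffineOpen V), ∃ l : FreeBC0 f (Coh.structureModule X) V,
      ∀ (z : S) (hz : z ∈ V), l.free.Split hV 0 hz ∧ l.free.Split hV 1 hz := fun {V} hV => by
    obtain ⟨g, l, -⟩ := exists_det f (Coh.structureModule X) hfp hfl hV
    exact ⟨l, fun z hz => ⟨(epi_bc0_iff_split hV l hz).1 (hepi z),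
      l.free.split_prev hV hz 2 1 rfl (subsingleton_fiberH_of_dim f z (hd z) _ Nat.one_lt_two)
        (l.free.split_of_vanishing hV hz 2 (subsingleton_fiberH_of_dim f z (hd z) _ Nat.one_lt_two))⟩⟩
  obtain ⟨Δ⟩ := nonempty_derivedLES f
  obtain ⟨_, ⟨V, hV, rfl⟩, hyV, -⟩ :=
    S.isBasis_affineOpens.exists_subset_of_mem_open (Set.mem_univ y) isOpen_univ
  obtain ⟨l, hl⟩ := hsp hV
  have tr : ∀ i j : ℤ, i = ((0 : ℕ) : ℤ) → j = ((0 : ℕ) : ℤ) + 1 →
      SplitAt (l.free.L.d i j).hom (hV.primeIdealOf ⟨y, hyV⟩) := by
    rintro _ _ rfl rfl; exact (hl y hyV).1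
  obtain ⟨W, hyW, hW, -⟩ := l.free.exists_locFree hV Δ hyV 1 (hl y hyV).2
    (tr _ _ (by norm_num) (by norm_num))
  obtain ⟨U, n, hyU, ⟨i⟩⟩ := hW y hyW
  obtain ⟨_, ⟨V', hV', rfl⟩, hyV', hV'U⟩ := S.isBasis_affineOpens.exists_subset_of_mem_open hyU U.2
  obtain ⟨l', hl'⟩ := hsp hV'
  haveI := PushQCoh.isQCoh_Rpush f (Coh.structureModule X) 1
  exact ⟨U, n, hyU, ⟨i⟩,
    (l'.free.fiberRank_eq hV' Δ hyV' 1 (hl' y hyV').2).trans (mu_eq_of_restrict _ hV' hV'U i _)⟩

/-- If the fibre dimension of the first cohomology is constant, that is the rank. -/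
theorem isFinLocFreeOfRank_Rpush_one [HasInjectiveResolutions X.Modules]
    (hq : ∀ (s : S) (U : (Spec (S.residueField s)).Opens), IsIso ((f.fiberToSpecResidueField s).app U))
    (hd : ∀ s : S, topologicalKrullDim ↥(f.fiber s) ≤ 1) {g : ℕ}
    (hg : ∀ s : S, CohIII.fiberRank f (Coh.structureModule X) 1 s = g) :
    FlatMod.IsFinLocFreeOfRank g ((Coh.Rpush f 1).obj (Coh.structureModule X)) := fun y => by
  obtain ⟨U, n, hy, i, hn⟩ := exists_free_Rpush_one f hq hd y
  obtain rfl : n = g := hn.symm.trans (hg y)
  exact ⟨U, hy, i⟩

/-- The fibre dimension is the genus of the fibre. -/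
theorem fiberRank_one_eq_genus (s : S) :
    CohIII.fiberRank f (Coh.structureModule X) 1 s =
      (letI : (f.fiber s).Over (Spec (S.residueField s)) := ⟨f.fiberToSpecResidueField s⟩
      Curv2.genus (S.residueField s) (f.fiber s)) := by
  letI : (f.fiber s).Over (Spec (CommRingCat.of (S.residueField s))) := ⟨f.fiberToSpecResidueField s⟩
  exact Groth.L03.Euler.finrank_HH_of_iso (k := S.residueField s) (Groth.L29.LocFree.pullbackUnitIso (f.fiberι s)) 1

/-- The fibres of a proper geometrically connected morphism with geometrically reduced fibres have only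
constant functions. -/
theorem isIso_fiber_app_of_reduced [GeometricallyConnected f] (s : S)
    [GeometricallyReduced (f.fiberToSpecResidueField s)] (U : (Spec (S.residueField s)).Opens) :
    IsIso ((f.fiberToSpecResidueField s).app U) := by
  let j : f.fiber s ⟶ Spec (CommRingCat.of (S.residueField s)) := f.fiberToSpecResidueField s
  refine isIso_app_of_appTop (k := S.residueField s) j ?_ U
  haveI : IsProper j := inferInstanceAs (IsProper (Limits.pullback.snd f _))
  haveI : GeometricallyConnected j := inferInstanceAs (GeometricallyConnected (Limits.pullback.snd f _))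
  haveI : GeometricallyReduced j := inferInstanceAs (GeometricallyReduced (f.fiberToSpecResidueField s))
  haveI : ConnectedSpace ↥(f.fiber s) := GeometricallyConnected.connectedSpace_of_subsingleton j
  have hb := Groth.L08.Cube.bijective_toGlobal_of_geometric j
  have e : (Coh.toGlobal j : S.residueField s → Γ(f.fiber s, ⊤)) =
      (fun a => j.appTop a) ∘ (fun a => (Scheme.ΓSpecIso (S.residueField s)).inv a) := rfl
  rw [e] at hb
  exact (Function.Bijective.of_comp_iff _
    (ConcreteCategory.bijective_of_isIso (Scheme.ΓSpecIso (S.residueField s)).inv)).1 hb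

/-- Higher direct images above the fibre dimension vanish. -/
theorem isZero_Rpush_of_dim [HasInjectiveResolutions X.Modules] (F : X.Modules) [Coh.IsQCoh F]
    (hfp : CohB1.IsFP F) (hfl : FlatMod.IsFlatOver f F) {d : ℕ}
    (hd : ∀ s : S, topologicalKrullDim ↥(f.fiber s) ≤ d) {p : ℕ} (hp : d < p) :
    Limits.IsZero ((Coh.Rpush f p).obj F) :=
  Groth.L21.Mod.isZero_of_restrict (fun _ : Unit => (⊤ : S.Opens).ι) (fun x => ⟨(), ⟨x, trivial⟩, rfl⟩) _ fun _ =>
    isZero_restrict_of_forall _ ⊤ fun y _ =>
      exists_isZero_of_vanishing f F hfp hfl y p (subsingleton_fiberH_of_dim f y (hd y) F hp)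

/-- The fibres of a proper smooth geometrically connected morphism have only constant functions. -/
theorem isIso_fiber_app [Smooth f] [GeometricallyConnected f] (s : S) (U : (Spec (S.residueField s)).Opens) :
    IsIso ((f.fiberToSpecResidueField s).app U) := by
  let j : f.fiber s ⟶ Spec (CommRingCat.of (S.residueField s)) := f.fiberToSpecResidueField s
  refine isIso_app_of_appTop (k := S.residueField s) j ?_ U
  haveI : IsProper j := inferInstanceAs (IsProper (Limits.pullback.snd f _))
  haveI : Smooth j := inferInstanceAs (Smooth (Limits.pullback.snd f _))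
  haveI : GeometricallyConnected j := inferInstanceAs (GeometricallyConnected (Limits.pullback.snd f _))
  haveI := Groth.Agent.AV.geometricallyReduced_of_smooth j
  haveI : ConnectedSpace ↥(f.fiber s) := GeometricallyConnected.connectedSpace_of_subsingleton j
  have hb := Groth.L08.Cube.bijective_toGlobal_of_geometric j
  have e : (Coh.toGlobal j : S.residueField s → Γ(f.fiber s, ⊤)) =
      (fun a => j.appTop a) ∘ (fun a => (Scheme.ΓSpecIso (S.residueField s)).inv a) := rfl
  rw [e] at hb
  exact (Function.Bijective.of_comp_iff _
    (ConcreteCategory.bijective_of_isIso (Scheme.ΓSpecIso (S.residueField s)).inv)).1 hb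

end Groth.L12.CurveFam
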