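import Groth.Agent.L22.VeryAmple.Over
import Groth.Agent.L16.ProperFinite
import Groth.Agent.L16.ProperVanishing
import Groth.Agent.L19.ProjBdl.PullComp
import Groth.Agent.L18.ProjSpaceUP
import Groth.Prelude.Def_SecTwist

/-!
# Normally generated ample line bundles are very ample
-/

set_option autoImplicit false
set_option linter.style.haveILetI false
set_option linter.unusedSectionVars false
set_option backward.isDefEq.respectTransparency false
set_option backward.isDefEq.respectTransparency.types false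

universe u

open CategoryTheory CategoryTheory.Limits AlgebraicGeometry TopologicalSpace Opposite MonoidalCategory

noncomputable section

namespace Groth.L12.CurveFam

open Groth.L18.Frame (IsFrame rs ro rs_rs rs_self rs_smul)
open Groth.L18.GenLoc (tens tens_rs tens_smul_left tens_smul_right isFrame_tens secOf isFrame_genLocus le_genLocus
  genLocus_inf_eq secOf_homOfSection)
open Groth.L18.Ample (tw it it_rs genLocus_id)
open scoped TensorProduct

variable {X : Scheme.{u}} {L : X.Modules}

/-- The section `1` of the structure module. -/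
def oneSec (X : Scheme.{u}) : Γ(Coh.structureModule X, ⊤) := secOf (𝟙 (Coh.structureModule X))

/-- Powers of a frame. -/
def epow {G : X.Opens} (e : Γ(L, G)) : ∀ n : ℕ, Γ(CohB1.tensorPow L n, G)
  | 0 => rs (Coh.structureModule X) le_top (oneSec X)
  | n + 1 => tens (CohB1.tensorPow L n) L G (epow e n) e

theorem isFrame_epow {G : X.Opens} {e : Γ(L, G)} (he : IsFrame L G e) : ∀ n, IsFrame (CohB1.tensorPow L n) G (epow e n)
  | 0 => by
    have h := (isFrame_genLocus (𝟙 (Coh.structureModule X))).mono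
      (V := G) (by rw [genLocus_id]; exact le_top)
    rwa [rs_rs] at h
  | n + 1 => isFrame_tens (isFrame_epow he n) he

theorem rs_epow {G W : X.Opens} (h : W ≤ G) (e : Γ(L, G)) : ∀ n,
    rs (CohB1.tensorPow L n) h (epow e n) = epow (rs L h e) n
  | 0 => rs_rs _ _ _ _
  | n + 1 => by
    show rs (CohB1.tensorMod (CohB1.tensorPow L n) L) h (tens _ L G _ e) = tens _ L W _ _
    rw [tens_rs, rs_epow h e n]

/-- Every section of `O ⊗ L` is a section of `L` tensored with `1`. -/
theorem exists_tens_one (U : X.Opens) (t : Γ(CohB1.tensorMod (Coh.structureModule X) L, U)) :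
    ∃ σ : Γ(L, U), t = tens (Coh.structureModule X) L U (rs _ le_top (oneSec X)) σ := by
  let θ := Groth.L00.Tensor.tensorUnitLeft L
  have key : ∀ σ : Γ(L, U), θ.hom.app U (tens (Coh.structureModule X) L U (rs _ le_top (oneSec X)) σ) = σ := by
    intro σ
    have h1 : Groth.L00.Tensor.unit (Groth.L00.Tensor.pre (Coh.structureModule X) ⊗ Groth.L00.Tensor.pre L) ≫
        (Groth.L00.Tensor.preF X).map θ.hom = (λ_ (Groth.L00.Tensor.pre L)).hom := by
      show _ ≫ (Groth.L00.Tensor.preF X).map ((Groth.L00.Tensor.shf X).map (λ_ (Groth.L00.Tensor.pre L)).hom ≫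
        (Groth.L00.Tensor.counitIso L).hom) = _
      rw [Functor.map_comp, ← Category.assoc]
      rw [show Groth.L00.Tensor.unit (Groth.L00.Tensor.pre (Coh.structureModule X) ⊗ Groth.L00.Tensor.pre L) ≫
          (Groth.L00.Tensor.preF X).map ((Groth.L00.Tensor.shf X).map (λ_ (Groth.L00.Tensor.pre L)).hom) =
          (λ_ (Groth.L00.Tensor.pre L)).hom ≫ Groth.L00.Tensor.unit (Groth.L00.Tensor.pre L) from
        ((PresheafOfModules.sheafificationAdjunction (𝟙 X.ringCatSheaf.obj)).unit.naturality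
          (λ_ (Groth.L00.Tensor.pre L)).hom).symm, Category.assoc]
      rw [show Groth.L00.Tensor.unit (Groth.L00.Tensor.pre L) ≫
          (Groth.L00.Tensor.preF X).map (Groth.L00.Tensor.counitIso L).hom = 𝟙 _ from
        (PresheafOfModules.sheafificationAdjunction (𝟙 X.ringCatSheaf.obj)).right_triangle_components L,
        Category.comp_id]
    have h2 := LinearMap.congr_fun (congrArg ModuleCat.Hom.hom (congr_fun (congrArg PresheafOfModules.Hom.app h1) (op U)))
      ((rs (Coh.structureModule X) (le_top : U ≤ ⊤) (oneSec X)) ⊗ₜ σ)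
    refine Eq.trans ?_ (h2.trans ?_)
    · rfl
    show (show Γ(X, U) from rs (Coh.structureModule X) (le_top : U ≤ ⊤) (oneSec X)) • σ = σ
    rw [show (show Γ(X, U) from rs (Coh.structureModule X) (le_top : U ≤ ⊤) (oneSec X)) = (1 : Γ(X, U)) from
      map_one (X.presheaf.map (homOfLE (le_top : U ≤ ⊤)).op).hom, one_smul]
  exact ⟨θ.hom.app U t, (ConcreteCategory.bijective_of_isIso (θ.hom.app U)).1 (key _).symm⟩

/-- Coefficients of sections of powers lie where those of sections of a normally generated module do. -/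
theorem coeff_mem (hng : ∀ n : ℕ, 1 ≤ n → AddSubgroup.closure {t | ∃ (m : (CohB1.tensorPow L n).val.obj (op ⊤))
      (s : L.val.obj (op ⊤)), t = SecTwist.tmul (CohB1.tensorPow L n) L ⊤ m s} = ⊤)
    {G : X.Opens} {e : Γ(L, G)} (he : IsFrame L G e) (P : AddSubgroup Γ(X, G))
    (hmul : ∀ a b : Γ(X, G), a ∈ P → b ∈ P → a * b ∈ P)
    (h1 : ∀ (σ : Γ(L, ⊤)) (a : Γ(X, G)), a • e = rs L le_top σ → a ∈ P) :
    ∀ n, 1 ≤ n → ∀ (t : Γ(CohB1.tensorPow L n, ⊤)) (a : Γ(X, G)),
      a • epow e n = rs (CohB1.tensorPow L n) le_top t → a ∈ P := by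
  intro n
  induction n with
  | zero => intro h; omega
  | succ n ih =>
    intro _ t a ha
    rcases Nat.eq_zero_or_pos n with rfl | hn
    · obtain ⟨σ, rfl⟩ := exists_tens_one (L := L) ⊤ t
      obtain ⟨b, hb⟩ := he.exists_coeff le_rfl (rs L le_top σ)
      rw [rs_self] at hb
      have h3 : rs (CohB1.tensorPow L 1) (le_top : G ≤ ⊤)
          (tens (Coh.structureModule X) L ⊤ (rs _ le_top (oneSec X)) σ) = b • epow e 1 := by
        show rs (CohB1.tensorMod (Coh.structureModule X) L) _ _ = b • tens (Coh.structureModule X) L G _ e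
        rw [tens_rs, rs_rs, ← hb, tens_smul_right]
        rfl
      rw [(isFrame_epow he 1).inj le_rfl (a := a) (b := b) (by rw [rs_self]; exact ha.trans h3)]
      exact h1 σ b hb
    · have hall : ∀ t : (CohB1.tensorPow L (n + 1)).val.obj (op ⊤), ∀ a : Γ(X, G),
          a • epow e (n + 1) = rs (CohB1.tensorPow L (n + 1)) le_top t → a ∈ P := by
        intro t
        have ht : t ∈ (⊤ : AddSubgroup _) := trivial
        rw [← hng n hn] at ht
        have hfr := isFrame_epow he (n + 1)
        induction ht using AddSubgroup.closure_induction with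
        | mem x hx =>
          intro a ha
          obtain ⟨m, s, rfl⟩ := hx
          obtain ⟨b, hb⟩ := (isFrame_epow he n).exists_coeff le_rfl (rs (CohB1.tensorPow L n) le_top m)
          obtain ⟨c, hc⟩ := he.exists_coeff le_rfl (rs L le_top s)
          rw [rs_self] at hb hc
          have h3 : rs (CohB1.tensorPow L (n + 1)) (le_top : G ≤ ⊤) (SecTwist.tmul (CohB1.tensorPow L n) L ⊤ m s) =
              (b * c) • epow e (n + 1) := by
            show rs (CohB1.tensorMod (CohB1.tensorPow L n) L) _ (tens (CohB1.tensorPow L n) L ⊤ m s) =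
              (b * c) • tens (CohB1.tensorPow L n) L G (epow e n) e
            rw [tens_rs, ← hb, ← hc, tens_smul_left, tens_smul_right, mul_smul]
          rw [hfr.inj le_rfl (a := a) (b := b * c) (by rw [rs_self]; exact ha.trans h3)]
          exact hmul _ _ (ih hn m b hb) (h1 s c hc)
        | zero =>
          intro a ha
          rw [hfr.inj le_rfl (a := a) (b := 0) (by rw [rs_self, zero_smul]; exact ha.trans (map_zero _))]
          exact P.zero_mem
        | add x y _ _ hx hy =>
          intro a ha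
          obtain ⟨b, hb⟩ := hfr.exists_coeff le_rfl (rs (CohB1.tensorPow L (n + 1)) le_top x)
          obtain ⟨c, hc⟩ := hfr.exists_coeff le_rfl (rs (CohB1.tensorPow L (n + 1)) le_top y)
          rw [rs_self] at hb hc
          rw [hfr.inj le_rfl (a := a) (b := b + c) (by rw [rs_self, add_smul, hb, hc]; exact ha.trans (map_add _ _ _))]
          exact P.add_mem (hx b hb) (hy c hc)
        | neg x _ hx =>
          intro a ha
          obtain ⟨b, hb⟩ := hfr.exists_coeff le_rfl (rs (CohB1.tensorPow L (n + 1)) le_top x)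
          rw [rs_self] at hb
          rw [hfr.inj le_rfl (a := a) (b := -b) (by rw [rs_self, neg_smul, hb]; exact ha.trans (map_neg _ _))]
          exact P.neg_mem (hx b hb)
      exact hall t a ha

theorem tens_heq {P Q : X.Modules} (h : P = Q) {U : X.Opens} {x : Γ(P, U)} {y : Γ(Q, U)} (hxy : HEq x y)
    (e : Γ(L, U)) : HEq (tens P L U x e) (tens Q L U y e) := by
  subst h
  cases hxy
  rfl

theorem exists_rs_eq_of_heq {P Q : X.Modules} (h : P = Q) {U : X.Opens} (t : Γ(P, ⊤)) (y : Γ(Q, U))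
    (hty : HEq (rs P (le_top : U ≤ ⊤) t) y) : ∃ t' : Γ(Q, ⊤), rs Q le_top t' = y := by
  subst h
  exact ⟨t, eq_of_heq hty⟩

/-- Iterated twists of a function are multiples of the powers of the frame. -/
theorem it_heq_epow (σ : Γ(L, ⊤)) {U : X.Opens} (w : Γ(X, U)) : ∀ K,
    HEq (it σ U (show Γ(Coh.structureModule X, U) from w) K) (w • epow (rs L (le_top : U ≤ ⊤) σ) K)
  | 0 => by
    refine heq_of_eq ?_
    show w = w * (show Γ(X, U) from rs (Coh.structureModule X) (le_top : U ≤ ⊤) (oneSec X))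
    rw [show (show Γ(X, U) from rs (Coh.structureModule X) (le_top : U ≤ ⊤) (oneSec X)) = (1 : Γ(X, U)) from
      map_one (X.presheaf.map (homOfLE (le_top : U ≤ ⊤)).op).hom, mul_one]
  | K + 1 => by
    refine (tens_heq (Groth.L18.Ample.tw_unit L K) (it_heq_epow σ w K) _).trans (heq_of_eq ?_)
    exact tens_smul_left _ _ _

/-- An ample, normally generated invertible module on a proper scheme over a Noetherian affine base is
very ample. -/
theorem isRelVeryAmplePn_of_normallyGenerated {R : Type u} [CommRing R] [IsNoetherianRing R]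
    (f : X ⟶ Spec (CommRingCat.of R)) [IsProper f] (hLa : CohB1.IsAmple L)
    (hng : ∀ n : ℕ, 1 ≤ n → AddSubgroup.closure {t | ∃ (m : (CohB1.tensorPow L n).val.obj (op ⊤))
      (s : L.val.obj (op ⊤)), t = SecTwist.tmul (CohB1.tensorPow L n) L ⊤ m s} = ⊤) :
    RelAmple.IsRelVeryAmplePn f L := by
  classical
  have hL : PicF.IsInvertible L := hLa.1
  haveI : CompactSpace X := hLa.2.1
  haveI : X.IsSeparated := Groth.L18.Ample.isSeparated_of_isAmple hLa
  letI : X.Over (Spec (CommRingCat.of R)) := ⟨f⟩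
  haveI : IsProper (X ↘ Spec (CommRingCat.of R)) := ‹IsProper f›
  haveI : IsNoetherianRing (CommRingCat.of R) := ‹IsNoetherianRing R›
  haveI : IsLocallyNoetherian X := LocallyOfFiniteType.isLocallyNoetherian f
  haveI := Groth.L16.ProperFinite.finite_HH R (Groth.L16.ProperFinite.isCoh_of_isInvertible hL) 0
  obtain ⟨s, hs⟩ := Groth.L16.ProperVanishing.finite_sections_top R L
  let κ : Type u := Option {x // x ∈ s}
  let S : κ → Γ(L, ⊤) := fun k => k.elim 0 (fun x => x.1)
  -- coefficients of global sections lie in any subgroup containing constants and those of generators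
  have hspan : ∀ {G : X.Opens} {e : Γ(L, G)}, IsFrame L G e → ∀ P : AddSubgroup Γ(X, G),
      (∀ (c : R) (a : Γ(X, G)) (k : κ), a • e = rs L le_top (S k) →
        ro (le_top : G ≤ ⊤) (Coh.toGlobal f c) * a ∈ P) →
      ∀ (σ : Γ(L, ⊤)) (a : Γ(X, G)), a • e = rs L le_top σ → a ∈ P := by
    intro G e he P hP σ a ha
    choose b hb using fun k : κ => he.exists_coeff le_rfl (rs L le_top (S k))
    simp only [rs_self] at hb
    obtain ⟨c, hc⟩ := hs σ
    rw [he.inj le_rfl (a := a) (b := ∑ x ∈ s.attach, ro le_top (Coh.toGlobal f (c x.1)) * b (some x)) (by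
      rw [rs_self, ha, hc, Finset.sum_smul, ← Finset.sum_attach s]
      refine (map_sum (L.presheaf.map (homOfLE (le_top : G ≤ ⊤)).op).hom _ _).trans
        (Finset.sum_congr rfl fun x _ => ?_)
      rw [mul_smul, hb]
      exact rs_smul L le_top _ _)]
    exact P.sum_mem fun x _ => hP _ _ _ (hb (some x))
  -- the generators have no common zero
  have hgenS : ∀ x : X, ∃ k, x ∈ CohB1.genLocus L (Groth.L16.homOfSection L (S k)) := by
    intro x
    obtain ⟨n, t, hxt, -⟩ := hLa.2.2 x
    obtain ⟨W, e, hxW, he⟩ := Groth.L18.Frame.exists_frame hL x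
    obtain ⟨a, ha⟩ := (isFrame_epow he (n + 1)).exists_coeff le_rfl (rs (CohB1.tensorPow L (n + 1)) le_top (secOf t))
    rw [rs_self] at ha
    have hxa : x ∈ X.basicOpen a := by
      rw [← genLocus_inf_eq t (isFrame_epow he (n + 1)) ha]; exact ⟨hxt, hxW⟩
    by_contra hno
    let I : Ideal Γ(X, W) := (IsLocalRing.maximalIdeal (X.presheaf.stalk x)).comap (X.presheaf.germ W x hxW).hom
    have hI : a ∈ I := coeff_mem hng he I.toAddSubgroup (fun p q _ hq => I.mul_mem_left p hq)
      (hspan he _ fun c b k hb => I.mul_mem_left _ (by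
        show b ∈ I
        by_contra hbI
        refine hno ⟨k, ?_⟩
        have hu : x ∈ X.basicOpen b := (X.mem_basicOpen b x hxW).2 (IsLocalRing.notMem_maximalIdeal.1 hbI)
        rw [← genLocus_inf_eq (Groth.L16.homOfSection L (S k)) he (a := b) (by rw [secOf_homOfSection]; exact hb)]
          at hu
        exact hu.1)) (n + 1) (by omega) (secOf t) a ha
    exact IsLocalRing.notMem_maximalIdeal.2 ((X.mem_basicOpen a x hxW).1 hxa) hI
  -- the morphism of the generators
  obtain ⟨m, ⟨eκ⟩⟩ : ∃ m : ℕ, Nonempty (κ ≃ Fin (m + 1)) := by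
    obtain ⟨m, hm⟩ := Nat.exists_eq_succ_of_ne_zero (Fintype.card_ne_zero (α := κ))
    exact ⟨m, ⟨Fintype.equivFinOfCardEq hm⟩⟩
  let S' : Fin (m + 1) → Γ(L, ⊤) := fun j => S (eκ.symm j)
  obtain ⟨r, hr, τ, hτ⟩ := Groth.L18.PUP.exists_hom f L hL S'
    (Groth.L18.SpecLine.generatedBy_of_frames (ι := Fin (m + 1)) S' fun x => by
      obtain ⟨k, hk⟩ := hgenS x
      refine ⟨_, eκ k, hk, ?_⟩
      have h := isFrame_genLocus (Groth.L16.homOfSection L (S k))
      rw [secOf_homOfSection] at h
      show IsFrame L _ (rs L le_top (S (eκ.symm (eκ k))))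
      rw [Equiv.symm_apply_apply]
      exact h)
  let sj : Fin (m + 1) → (Coh.structureModule X ⟶ L) := fun j => Groth.L16.homOfSection L (S' j)
  have hτrs : ∀ (W : X.Opens) (j : Fin (m + 1)),
      τ.hom.app W (rs _ le_top (Groth.L18.PUP.rT r j)) = rs L le_top (S' j) := fun W j => by
    rw [← hτ j]
    exact congr($(τ.hom.mapPresheaf.naturality (homOfLE (le_top : W ≤ ⊤)).op) (Groth.L18.PUP.rT r j))
  have hpre : ∀ j, r ⁻¹ᵁ Groth.L18.PUP.D j = CohB1.genLocus L (sj j) := fun j => by
    refine le_antisymm (le_genLocus _ ?_) (Groth.L18.PUP.le_preimage_of_frame r ?_)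
    · rw [secOf_homOfSection, ← hτrs]
      exact Groth.L19.ProjBdl.isFrame_of_iso τ (Groth.L18.PUP.rT_frame r j)
    · have h := isFrame_genLocus (sj j)
      rw [secOf_homOfSection, ← hτrs] at h
      have h' := Groth.L19.ProjBdl.isFrame_of_iso τ.symm h
      convert h' using 1
      exact congr($(congrArg (fun q => Scheme.Modules.Hom.app q (CohB1.genLocus L (sj j))) τ.hom_inv_id)
        (rs _ le_top (Groth.L18.PUP.rT r j))).symm
  -- coefficients of sections of powers on the charts come from the target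
  have hcc : ∀ j (n : ℕ), 1 ≤ n → ∀ (t : Γ(CohB1.tensorPow L n, ⊤)) (a : Γ(X, r ⁻¹ᵁ Groth.L18.PUP.D j)),
      a • epow (rs L (le_top : r ⁻¹ᵁ Groth.L18.PUP.D j ≤ ⊤) (S' j)) n =
          rs (CohB1.tensorPow L n) (le_top : r ⁻¹ᵁ Groth.L18.PUP.D j ≤ ⊤) t →
        a ∈ (r.app (Groth.L18.PUP.D j)).hom.range.toAddSubgroup := by
    intro j
    have he : IsFrame L (r ⁻¹ᵁ Groth.L18.PUP.D j) (rs L le_top (S' j)) := by
      rw [← hτrs]
      exact Groth.L19.ProjBdl.isFrame_of_iso τ (Groth.L18.PUP.rT_frame r j)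
    refine coeff_mem hng he _ (fun a b ha hb => (r.app (Groth.L18.PUP.D j)).hom.range.mul_mem ha hb)
      (hspan he _ fun c a k hk => (r.app (Groth.L18.PUP.D j)).hom.range.mul_mem
        ⟨ro le_top (Coh.toGlobal (Groth.L18.PUP.pr m R) c), ?_⟩
        ⟨Groth.L18.PUP.cc j (eκ k), he.inj le_rfl ?_⟩)
    · subst hr
      exact (congr($((r.naturality (homOfLE (le_top : Groth.L18.PUP.D j ≤ ⊤)).op)) _)).trans rfl
    · have h1 := congrArg (τ.hom.app _) (Groth.L18.PUP.rT_smul r j (eκ k))
      rw [Scheme.Modules.Hom.app_smul, hτrs, hτrs] at h1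
      rw [rs_self, hk]
      refine h1.trans (congrArg _ ?_)
      exact congrArg S (eκ.symm_apply_apply k)
  -- the morphism is affine
  have haff : IsAffineHom r := by
    refine isAffineHom_of_forall_exists_isAffineOpen r fun p => ?_
    by_cases hp : p ∈ Set.range r
    · obtain ⟨x, rfl⟩ := hp
      obtain ⟨j, hj⟩ := Opens.mem_iSup.1 ((Groth.L18.PS.iSup_chart (n := m) (R := R)).ge (trivial : r x ∈ ⊤))
      obtain ⟨n, t, hxt, haT⟩ := hLa.2.2 x
      have he : IsFrame L (r ⁻¹ᵁ Groth.L18.PUP.D j) (rs L le_top (S' j)) := by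
        rw [← hτrs]
        exact Groth.L19.ProjBdl.isFrame_of_iso τ (Groth.L18.PUP.rT_frame r j)
      obtain ⟨a, ha⟩ := (isFrame_epow he (n + 1)).exists_coeff le_rfl (rs (CohB1.tensorPow L (n + 1)) le_top (secOf t))
      rw [rs_self] at ha
      obtain ⟨b, hb⟩ := hcc j (n + 1) (by omega) (secOf t) a ha
      have hba : r ⁻¹ᵁ (Groth.L18.PUP.P m R).basicOpen b = X.basicOpen a := by
        rw [Scheme.preimage_basicOpen, ← hb]
      have hD : IsAffineOpen (Groth.L18.PUP.D (R := R) j) :=
        Proj.isAffineOpen_basicOpen _ _ (Groth.L18.PS.X_mem m j) one_pos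
      have heq := genLocus_inf_eq t (isFrame_epow he (n + 1)) ha
      refine ⟨_, ?_, hD.basicOpen b, ?_⟩
      · have : x ∈ X.basicOpen a := by rw [← heq]; exact ⟨hxt, hj⟩
        rw [← hba] at this
        exact this
      · rw [hba, ← heq, hpre j, inf_comm]
        exact Groth.L18.Ample.isAffineOpen_genLocus_inf hL (sj j) haT
    · have hcl : IsClosed (Set.range r) := by
        haveI : IsProper (r ≫ Groth.L18.PUP.pr m R) := by rw [hr]; infer_instance
        haveI : IsProper r := IsProper.of_comp r (Groth.L18.PUP.pr m R)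
        exact r.isClosedMap.isClosed_range
      obtain ⟨_, ⟨U, hU, rfl⟩, hpU, hUr⟩ :=
        (Groth.L18.PUP.P m R).isBasis_affineOpens.exists_subset_of_mem_open hp hcl.isOpen_compl
      refine ⟨U, hpU, hU, ?_⟩
      rw [show r ⁻¹ᵁ U = ⊥ from eq_bot_iff.2 fun z hz => hUr hz ⟨z, rfl⟩]
      exact isAffineOpen_bot X
  -- the immersion
  let q := f ≫ (Spec (CommRingCat.of R)).isoSpec.hom
  obtain ⟨n', r', hr', hi, ⟨τ'⟩⟩ := Groth.L22.VeryAmple.exists_immersion (R := Γ(Spec (CommRingCat.of R), ⊤)) q hL (κ := ULift.{u} (Fin (m + 1)))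
    (fun k => S' k.down) (ι := ULift.{u} (Fin (m + 1))) id (fun j => r ⁻¹ᵁ Groth.L18.PUP.D j.down)
    (fun x => by
      obtain ⟨j, hj⟩ := Opens.mem_iSup.1 ((Groth.L18.PS.iSup_chart (n := m) (R := R)).ge (trivial : r x ∈ ⊤))
      exact ⟨⟨j⟩, hj⟩)
    (fun j => (Proj.isAffineOpen_basicOpen _ _ (Groth.L18.PS.X_mem m j.down) one_pos).preimage r)
    (fun j => by
      show IsFrame L _ (rs L le_top (S' j.down))
      rw [← hτrs]
      exact Groth.L19.ProjBdl.isFrame_of_iso τ (Groth.L18.PUP.rT_frame r j.down))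
    (fun j W hW => by
      rw [hpre j.down]
      exact le_genLocus _ (by rw [secOf_homOfSection]; exact hW))
    (fun j A hc hj => eq_top_iff.2 fun w _ => by
      obtain ⟨j⟩ := j
      have he : IsFrame L (r ⁻¹ᵁ Groth.L18.PUP.D j) (rs L le_top (S' j)) := by
        rw [← hτrs]
        exact Groth.L19.ProjBdl.isFrame_of_iso τ (Groth.L18.PUP.rT_frame r j)
      obtain ⟨K₀, hK₀⟩ := Groth.L22.VeryAmple.exists_extend_ge hL (Groth.L18.Ample.isInvertible_structureModule X)
        (sj j) (show Γ(Coh.structureModule X, CohB1.genLocus L (sj j)) from ro (hpre j).ge w)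
      obtain ⟨t, ht⟩ := hK₀ (K₀ + 1) K₀.le_succ
      have ht' : HEq (rs (tw (Coh.structureModule X) L (K₀ + 1)) (le_top : r ⁻¹ᵁ Groth.L18.PUP.D j ≤ ⊤) t)
          (w • epow (rs L (le_top : r ⁻¹ᵁ Groth.L18.PUP.D j ≤ ⊤) (S' j)) (K₀ + 1)) := by
        refine HEq.trans (heq_of_eq ?_) (it_heq_epow (S' j) w (K₀ + 1))
        have h := congrArg (rs (tw (Coh.structureModule X) L (K₀ + 1)) (hpre j).le) ht
        rw [rs_rs, it_rs, secOf_homOfSection] at h
        refine h.trans (congrArg (fun z => it (S' j) (r ⁻¹ᵁ Groth.L18.PUP.D j) z (K₀ + 1)) ?_)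
        show ro (hpre j).le (ro (hpre j).ge w) = w
        rw [Groth.L18.Frame.ro_ro, Groth.L18.Frame.ro_self]
      obtain ⟨t', ht''⟩ := exists_rs_eq_of_heq (Groth.L18.Ample.tw_unit L _) t _ ht'
      let φ : Γ(Groth.L18.PUP.P m R, Groth.L18.PUP.D j) →+* Γ(X, r ⁻¹ᵁ Groth.L18.PUP.D j) := (r.app _).hom
      have hmem : w ∈ A.toAddSubgroup := coeff_mem hng he A.toAddSubgroup (fun a b ha hb => A.mul_mem ha hb)
        (hspan he _ fun c a k hk => A.mul_mem ?_ (hj ⟨eκ k⟩ a (by
          show a • rs L le_top (S' j) = rs L le_top (S (eκ.symm (eκ k)))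
          rw [Equiv.symm_apply_apply]; exact hk)))
        (K₀ + 1) (by omega) t' w ht''.symm
      · exact hmem
      · have h1 : ro (le_top : r ⁻¹ᵁ Groth.L18.PUP.D j ≤ ⊤) (Coh.toGlobal f c) =
            q.appLE ⊤ (r ⁻¹ᵁ Groth.L18.PUP.D j) (by simp)
              ((Spec (CommRingCat.of R)).isoSpec.inv.appTop ((Scheme.ΓSpecIso (CommRingCat.of R)).inv c)) := by
          show _ = ((Spec (CommRingCat.of R)).isoSpec.inv.appTop ≫ q.appLE ⊤ (r ⁻¹ᵁ Groth.L18.PUP.D j) (by simp))
            ((Scheme.ΓSpecIso (CommRingCat.of R)).inv c)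
          rw [Scheme.Hom.appLE, ← Category.assoc,
            show (Spec (CommRingCat.of R)).isoSpec.inv.appTop ≫ q.app ⊤ = f.appTop by
              show _ ≫ q.appTop = _
              rw [← Scheme.Hom.comp_appTop, Category.assoc, Iso.hom_inv_id, Category.comp_id]]
          rfl
        rw [h1]
        exact hc _)
  obtain ⟨e, he, ⟨ε⟩⟩ := Groth.L22.VeryAmple.exists_iso_over n' (Spec (CommRingCat.of R))
  refine ⟨n', r' ≫ e.hom, inferInstance, ?_, ⟨(((Scheme.Modules.pullbackComp r' e.hom).app _).symm ≪≫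
    (Scheme.Modules.pullback r').mapIso ε ≪≫ τ').symm⟩⟩
  show (r' ≫ e.hom) ≫ CohB1.ProjSpaceOver.toBase n' _ = f
  rw [Category.assoc, he, ← Category.assoc, hr', Category.assoc, Iso.hom_inv_id, Category.comp_id]

end Groth.L12.CurveFam
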