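import Groth.Agent.L12.CurveFam.R1
import Groth.Prelude.Def_ModelsG

/-!
# Constant functions from the dimension of the degree zero cohomology
-/

set_option autoImplicit false
set_option linter.style.haveILetI false
set_option linter.unusedSectionVars false
set_option backward.isDefEq.respectTransparency false

universe u

open CategoryTheory CategoryTheory.Limits AlgebraicGeometry TopologicalSpace Opposite

noncomputable section

namespace Groth.L12.CurveFam

/-- If the degree zero cohomology of the structure sheaf is one-dimensional, constants are all functions. -/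
theorem bijective_toGlobal_of_hRank {k : Type u} [Field k] {Z : Scheme.{u}} (j : Z ⟶ Spec (CommRingCat.of k))
    (h : Models.hRank k Z j (Coh.structureModule Z) 0 = 1) : Function.Bijective (Coh.toGlobal j) := by
  letI : Z.Over (Spec (CommRingCat.of k)) := ⟨j⟩
  replace h : Module.finrank k (Coh.HH Z (Coh.structureModule Z) 0) = 1 := h
  let hT : IsTerminal (⊤ : Opens Z) := IsTerminal.ofUniqueHom (fun U => homOfLE le_top) (fun _ _ => rfl)
  let e : Coh.HH Z (Coh.structureModule Z) 0 ≃+ Coh.Γtop Z :=
    Sheaf.H.equiv₀ (Coh.toAb (Coh.structureModule Z)) hT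
  have he : ∀ (c : k) x, e (c • x) = Coh.toGlobal j c * e x := fun c x => by
    show Sheaf.H.equiv₀ _ hT (Sheaf.H.map (Coh.smulAb (Coh.structureModule Z) _) 0 x) = _
    rw [← Sheaf.H.equiv₀_naturality]
    refine (Coh.smulAb_app (Coh.structureModule Z) _ (op ⊤) _).trans ?_
    show Coh.resTop Z (op ⊤) _ * _ = _
    congr 1
    simp [Coh.resTop]
    rfl
  haveI : Nontrivial (Coh.HH Z (Coh.structureModule Z) 0) :=
    Module.nontrivial_of_finrank_pos (R := k) (h ▸ Nat.one_pos)
  have h1 : (1 : Coh.Γtop Z) ≠ 0 := fun h10 => by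
    obtain ⟨x, hx⟩ := exists_ne (0 : Coh.HH Z (Coh.structureModule Z) 0)
    refine hx (e.injective ?_)
    rw [map_zero, ← one_mul (e x), h10, zero_mul]
  haveI : Nontrivial (Coh.Γtop Z) := ⟨⟨1, 0, h1⟩⟩
  refine ⟨(Coh.toGlobal j).injective, fun y => ?_⟩
  have hv : e.symm (1 : Coh.Γtop Z) ≠ 0 := fun h' => h1 (by
    have := congrArg e h'
    rwa [AddEquiv.apply_symm_apply, map_zero] at this)
  obtain ⟨c, hc⟩ := exists_smul_eq_of_finrank_eq_one h hv (e.symm y)
  refine ⟨c, ?_⟩
  have := congrArg e hc
  rwa [he, AddEquiv.apply_symm_apply, AddEquiv.apply_symm_apply, mul_one] at this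

/-- One-dimensional degree zero cohomology on fibres gives constant functions on fibres. -/
theorem isIso_fiber_app_of_hRank {X S : Scheme.{u}} (f : X ⟶ S) (s : S)
    (h : Models.hRank ↥(S.residueField s) (f.fiber s) (f.fiberToSpecResidueField s)
      (Coh.structureModule (f.fiber s)) 0 = 1)
    (U : (Spec (S.residueField s)).Opens) : IsIso ((f.fiberToSpecResidueField s).app U) := by
  let j : f.fiber s ⟶ Spec (CommRingCat.of (S.residueField s)) := f.fiberToSpecResidueField s
  refine Groth.L20.DescLocus.isIso_app_of_appTop (k := S.residueField s) j ?_ U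
  have hb := bijective_toGlobal_of_hRank (k := S.residueField s) j h
  have e : (Coh.toGlobal j : S.residueField s → Γ(f.fiber s, ⊤)) =
      (fun a => j.appTop a) ∘ (fun a => (Scheme.ΓSpecIso (S.residueField s)).inv a) := rfl
  rw [e] at hb
  exact (Function.Bijective.of_comp_iff _
    (ConcreteCategory.bijective_of_isIso (Scheme.ΓSpecIso (S.residueField s)).inv)).1 hb

end Groth.L12.CurveFam
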