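import Groth.Agent.S9386
import Groth.Agent.L19.OmegaSh.DiffCompat
import Groth.Agent.L19.OmegaSh.Universal
import Groth.Agent.L12.CurveFam.R1
import Groth.Agent.L21.Duality.Main
import Groth.Agent.L21.Duality.CliffordEquality
import Groth.Agent.L21.RR.Twist
import Groth.Agent.L21.RR.VeryAmpleField
import Groth.Agent.L21.Bundle.Lines
import Groth.Agent.L21.P1.Bases
import Groth.Agent.L03.ShStab.RankOneSlope
import Groth.Agent.L18.AmplePull
import Groth.Agent.L14.DefLift.LocTriv.SmoothRigid
import Groth.Agent.L21.Disc.SimplyConn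
import Groth.Agent.L21.Weierstrass.Main

/-!
# The differentials of a family of curves, fibre by fibre
-/

set_option autoImplicit false
set_option linter.style.haveILetI false
set_option linter.unusedSectionVars false
set_option backward.isDefEq.respectTransparency false
set_option backward.isDefEq.respectTransparency.types false

universe u

open CategoryTheory CategoryTheory.Limits AlgebraicGeometry TopologicalSpace Opposite

noncomputable section

namespace Groth.L12.CurveFam

/-- Differentials commute with base change. -/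
theorem nonempty_pullback_omega_iso {X S X' S' : Scheme.{u}} {f : X ⟶ S} {g : S' ⟶ S} {g' : X' ⟶ X}
    {f' : X' ⟶ S'} [QuasiSeparated f] [QuasiSeparated f'] (hsq : IsPullback g' f' f g) :
    Nonempty ((Scheme.Modules.pullback g').obj (Omega.sheaf f) ≅ Omega.sheaf f') := by
  have hd := Groth.L19.OmegaSh.isUniversal_dOmega (f := f)
  have hd' := Groth.L19.OmegaSh.isUniversal_dOmega (f := f')
  obtain ⟨c, hc, -⟩ := Groth.L19.OmegaSh.existsUnique_diffCompat g' g hsq.w.symm hd
    (OmegaSh.dOmega f')
  haveI := Groth.Agent.S9386.result f g g' f' hsq _ _ hd _ _ hd' c hc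
  exact ⟨asIso c⟩

/-- Invertibility of a locally free module is detected on the fibres. -/
theorem isInvertible_of_fiber {X S : Scheme.{u}} (f : X ⟶ S) {M : X.Modules} (hM : FlatMod.IsFinLocFree M)
    (h : ∀ s : S, PicF.IsInvertible ((Scheme.Modules.pullback (f.fiberι s)).obj M)) : PicF.IsInvertible M := by
  refine Groth.L21.Bundle.isInvertible_of_rank fun x => ?_
  obtain ⟨U, n, hxU, ⟨e⟩⟩ := hM x
  obtain ⟨z, hz⟩ : x ∈ Set.range (f.fiberι (f x)) := by rw [f.range_fiberι]; rfl
  obtain ⟨e'⟩ := Groth.L29.LocFree.restrict_pullback (f.fiberι (f x)) e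
  obtain ⟨W, hzW, ⟨e1⟩⟩ := Groth.L03.ShStab.RankOneSlope.rank_one_of_invertible (h (f x)) z
  obtain ⟨b, hb⟩ := Groth.L17.FinLocBases.exists_isBasis _ e'
  obtain ⟨c, hc⟩ := Groth.L17.FinLocBases.exists_isBasis _ e1
  obtain rfl : n = 1 := Groth.L21.P1.rank_eq_of_isBasisOn
    (Groth.L19.ProjBdl.isBasisOn_of_locBases hb) (Groth.L19.ProjBdl.isBasisOn_of_locBases hc) (x := z)
    (by rw [Scheme.Opens.ι_image_top]; show f.fiberι (f x) z ∈ U; rw [hz]; exact hxU)
    (by rw [Scheme.Opens.ι_image_top]; exact hzW)
  exact ⟨U, hxU, ⟨e⟩⟩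

section Fibre

variable {X S : Scheme.{u}} (f : X ⟶ S) [IsProper f] [Smooth f] (s : S)

/-- The restriction of the differentials to a fibre. -/
theorem nonempty_fiber_omega_iso :
    Nonempty ((Scheme.Modules.pullback (f.fiberι s)).obj (Omega.sheaf f) ≅
      Omega.sheaf (f.fiberToSpecResidueField s)) := by
  haveI : QuasiSeparated (f.fiberToSpecResidueField s) := inferInstanceAs (QuasiSeparated (pullback.snd f _))
  exact nonempty_pullback_omega_iso (IsPullback.of_hasPullback f (S.fromSpecResidueField s))

/-- A connected fibre of a smooth proper morphism is integral. -/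
theorem isIntegral_fiber [ConnectedSpace ↥(f.fiber s)] : IsIntegral (f.fiber s) := by
  letI : (f.fiber s).Over (Spec (CommRingCat.of (S.residueField s))) := ⟨f.fiberToSpecResidueField s⟩
  haveI : IsProper (f.fiber s ↘ Spec (CommRingCat.of (S.residueField s))) :=
    inferInstanceAs (IsProper (pullback.snd f _))
  haveI : Smooth (f.fiber s ↘ Spec (CommRingCat.of (S.residueField s))) :=
    inferInstanceAs (Smooth (pullback.snd f _))
  haveI := Groth.L21.RR.isNoetherian_of_proper (X := f.fiber s) (S.residueField s)
  exact Groth.L21.NormalTotal.isIntegral_of_connected fun x =>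
    Groth.L21.Smooth.isDomain_stalk (f.fiber s ↘ Spec (CommRingCat.of (S.residueField s))) x

/-- The differentials of a smooth proper family of connected curves form an invertible module. -/
theorem isInvertible_omega_of_dim (hconn : ∀ s : S, ConnectedSpace ↥(f.fiber s))
    (hdim : ∀ s : S, topologicalKrullDim ↥(f.fiber s) = 1) : PicF.IsInvertible (Omega.sheaf f) := by
  refine isInvertible_of_fiber f (Groth.L14.LocTriv.isFinLocFree_omega' f) fun s => ?_
  letI : (f.fiber s).Over (Spec (CommRingCat.of (S.residueField s))) := ⟨f.fiberToSpecResidueField s⟩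
  haveI : IsProper (f.fiber s ↘ Spec (CommRingCat.of (S.residueField s))) :=
    inferInstanceAs (IsProper (pullback.snd f _))
  haveI : Smooth (f.fiber s ↘ Spec (CommRingCat.of (S.residueField s))) :=
    inferInstanceAs (Smooth (pullback.snd f _))
  haveI := hconn s
  haveI := isIntegral_fiber f s
  obtain ⟨e⟩ := nonempty_fiber_omega_iso f s
  exact Groth.L18.Ample.isInvertible_of_iso e.symm
    (Groth.L21.Duality.isInvertible_omega (k := S.residueField s) (hdim s))

/-- The degree of a power of the differentials on a fibre with scalar functions only. -/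
theorem deg_fiber_omegaPow [ConnectedSpace ↥(f.fiber s)] (hd : topologicalKrullDim ↥(f.fiber s) = 1)
    (n : ℕ) : letI : (f.fiber s).Over (Spec (S.residueField s)) := ⟨f.fiberToSpecResidueField s⟩
      Groth.L21.RR.h (S.residueField s) 0 (Coh.structureModule (f.fiber s)) = 1 →
        Curv2.deg (S.residueField s) (f.fiber s) (CohIII.fiberMod f (CohB1.tensorPow (Omega.sheaf f) n) s) 1 =
          n * (2 * (Curv2.genus (S.residueField s) (f.fiber s) : ℤ) - 2) := by
  letI : (f.fiber s).Over (Spec (CommRingCat.of (S.residueField s))) := ⟨f.fiberToSpecResidueField s⟩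
  intro h0
  haveI : IsProper (f.fiber s ↘ Spec (CommRingCat.of (S.residueField s))) :=
    inferInstanceAs (IsProper (pullback.snd f _))
  haveI : Smooth (f.fiber s ↘ Spec (CommRingCat.of (S.residueField s))) :=
    inferInstanceAs (Smooth (pullback.snd f _))
  haveI := isIntegral_fiber f s
  haveI := Groth.L21.RR.isNoetherian_of_proper (X := f.fiber s) (S.residueField s)
  obtain ⟨e⟩ := nonempty_fiber_omega_iso f s
  have e' : (Scheme.Modules.pullback (f.fiberι s)).obj (CohB1.tensorPow (Omega.sheaf f) n) ≅
      CohB1.tensorPow (Omega.sheaf (f.fiberToSpecResidueField s)) n :=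
    Groth.L18.Ample.pullPow (f.fiberι s) _ n ≪≫ Groth.L00.Tensor.tensorPowIso e n
  have h1 := Groth.L21.Duality.deg_tensorPow (k := S.residueField s) hd
    (Groth.L21.Duality.isInvertible_omega (k := S.residueField s) hd) n
  rw [(Groth.L21.Duality.omega_invariants (k := S.residueField s) hd).2.2 h0] at h1
  rw [← h1, Curv2.deg, Curv2.deg, Groth.L21.RR.euler_eq (S.residueField s) hd.le,
    Groth.L21.RR.euler_eq (S.residueField s) hd.le, Groth.L21.RR.euler_eq (S.residueField s) hd.le]
  show ((Groth.L21.RR.h (S.residueField s) 0 _ : ℕ) : ℤ) - (Groth.L21.RR.h (S.residueField s) 1 _ : ℕ) - _ = _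
  rw [Groth.L21.RR.h_congr (S.residueField s) e' 0, Groth.L21.RR.h_congr (S.residueField s) e' 1]
  rfl

/-- Invertible modules of degree at least `2g + 1` on a fibre are very ample and have no first cohomology. -/
theorem fiber_va_of_deg_ge [GeometricallyConnected f] (hd : topologicalKrullDim ↥(f.fiber s) = 1) {L : X.Modules}
    (hL : PicF.IsInvertible L) : letI : (f.fiber s).Over (Spec (S.residueField s)) := ⟨f.fiberToSpecResidueField s⟩
      2 * (Curv2.genus (S.residueField s) (f.fiber s) : ℤ) + 1 ≤
          Curv2.deg (S.residueField s) (f.fiber s) (CohIII.fiberMod f L s) 1 →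
        (∃ (n : ℕ) (i : f.fiber s ⟶ Groth.L18.PUP.P n (S.residueField s)), IsImmersion i ∧
          i ≫ Groth.L18.PUP.pr n (S.residueField s) = f.fiberToSpecResidueField s ∧
          Nonempty ((Scheme.Modules.pullback i).obj (Groth.L18.PUP.O1 n (S.residueField s)) ≅
            CohIII.fiberMod f L s)) ∧ Subsingleton (CohIII.fiberH f L s 1) := by
  letI : (f.fiber s).Over (Spec (CommRingCat.of (S.residueField s))) := ⟨f.fiberToSpecResidueField s⟩
  intro hdeg
  let j : f.fiber s ⟶ Spec (CommRingCat.of (S.residueField s)) := f.fiberToSpecResidueField s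
  haveI : IsProper (f.fiber s ↘ Spec (CommRingCat.of (S.residueField s))) :=
    inferInstanceAs (IsProper (pullback.snd f _))
  haveI : IsProper j := inferInstanceAs (IsProper (pullback.snd f _))
  haveI : Smooth j := inferInstanceAs (Smooth (pullback.snd f _))
  haveI : Smooth (f.fiber s ↘ Spec (CommRingCat.of (S.residueField s))) := inferInstanceAs (Smooth j)
  haveI : GeometricallyConnected j := inferInstanceAs (GeometricallyConnected (pullback.snd f _))
  haveI := Groth.Agent.AV.geometricallyReduced_of_smooth j
  haveI : GeometricallyIntegral (f.fiber s ↘ Spec (CommRingCat.of (S.residueField s))) :=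
    Groth.L21.Disc.geometricallyIntegral_of_smooth j
  haveI : ConnectedSpace ↥(f.fiber s) := GeometricallyConnected.connectedSpace_of_subsingleton j
  haveI := isIntegral_fiber f s
  haveI := Groth.L21.RR.isNoetherian_of_proper (X := f.fiber s) (S.residueField s)
  have h0 : Groth.L21.RR.h (S.residueField s) 0 (Coh.structureModule (f.fiber s)) = 1 :=
    Groth.L08.Cube.finrank_HH_zero_structure j (Groth.L08.Cube.bijective_toGlobal_of_geometric j)
  have hL' : PicF.IsInvertible (CohIII.fiberMod f L s) := Groth.L18.Ample.isInvertible_pullback (f.fiberι s) hL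
  refine ⟨?_, ?_⟩
  · obtain ⟨n, r, hr, hw, hi⟩ := Groth.L21.RR.exists_closedImmersion_of_deg_ge (S.residueField s) hd hL' (by
      have h2 := hdeg
      rw [Curv2.deg, Groth.L21.RR.euler_eq (S.residueField s) hd.le (M := Coh.structureModule _)] at h2
      change _ ≤ _ - (1 : ℕ) * (((Groth.L21.RR.h (S.residueField s) 0 (Coh.structureModule (f.fiber s)) : ℕ) : ℤ) -
        (Curv2.genus (S.residueField s) (f.fiber s) : ℕ)) at h2
      rw [h0] at h2
      show ((Curv2.genus (S.residueField s) (f.fiber s) : ℕ) : ℤ) + 2 ≤ _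
      push_cast at h2
      omega)
    exact ⟨n, r, inferInstance, hw, hi⟩
  · refine Groth.L21.RR.subsingleton_h1_of_deg_gt (X := f.fiber s) (S.residueField s) hd.le h0 hL' ?_
    show 2 * (Curv2.genus (S.residueField s) (f.fiber s) : ℤ) - 2 < _
    omega

/-- A power `≥ 3` of the differentials is fibrewise very ample in genus at least two. -/
theorem omegaPow_fiber [GeometricallyConnected f] (hd : topologicalKrullDim ↥(f.fiber s) = 1)
    (hΩ : PicF.IsInvertible (Omega.sheaf f)) {g : ℕ} (hg : 2 ≤ g) {n : ℕ} (hn : 3 ≤ n) :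
    (letI : (f.fiber s).Over (Spec (S.residueField s)) := ⟨f.fiberToSpecResidueField s⟩
     Curv2.genus (S.residueField s) (f.fiber s) = g) →
        (∃ (m : ℕ) (i : f.fiber s ⟶ Groth.L18.PUP.P m (S.residueField s)), IsImmersion i ∧
          i ≫ Groth.L18.PUP.pr m (S.residueField s) = f.fiberToSpecResidueField s ∧
          Nonempty ((Scheme.Modules.pullback i).obj (Groth.L18.PUP.O1 m (S.residueField s)) ≅
            CohIII.fiberMod f (CohB1.tensorPow (Omega.sheaf f) n) s)) ∧
        Subsingleton (CohIII.fiberH f (CohB1.tensorPow (Omega.sheaf f) n) s 1) := by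
  intro hgen
  letI : (f.fiber s).Over (Spec (CommRingCat.of (S.residueField s))) := ⟨f.fiberToSpecResidueField s⟩
  let j : f.fiber s ⟶ Spec (CommRingCat.of (S.residueField s)) := f.fiberToSpecResidueField s
  haveI : Smooth j := inferInstanceAs (Smooth (pullback.snd f _))
  haveI : IsProper j := inferInstanceAs (IsProper (pullback.snd f _))
  haveI : GeometricallyConnected j := inferInstanceAs (GeometricallyConnected (pullback.snd f _))
  haveI : ConnectedSpace ↥(f.fiber s) := GeometricallyConnected.connectedSpace_of_subsingleton j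
  haveI := Groth.Agent.AV.geometricallyReduced_of_smooth j
  refine fiber_va_of_deg_ge f s hd (Groth.L18.Ample.isInvertible_tensorPow hΩ n) ?_
  rw [deg_fiber_omegaPow f s hd n (Groth.L08.Cube.finrank_HH_zero_structure j
    (Groth.L08.Cube.bijective_toGlobal_of_geometric j)), hgen]
  nlinarith

end Fibre

end Groth.L12.CurveFam
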