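import Groth.Agent.L12.CurveFam.FibAmple
import Groth.Agent.L12.CurveFam.Omega
import Groth.Agent.L22.Nakai.Integral
import Groth.Agent.L22.Nef.Bridge
import Groth.Agent.L21.Curve.EtalePoint

/-!
# Positive degree on an integral curve
-/

set_option autoImplicit false
set_option linter.style.haveILetI false
set_option linter.unusedSectionVars false
set_option backward.isDefEq.respectTransparency false
set_option backward.isDefEq.respectTransparency.types false

universe u

open CategoryTheory CategoryTheory.Limits AlgebraicGeometry TopologicalSpace Opposite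

noncomputable section

namespace Groth.L12.CurveFam

/-- An invertible module of positive degree on an integral proper curve is ample. -/
theorem isAmple_of_euler_lt (k : Type u) [Field k] {X : Scheme.{u}} [IsIntegral X]
    [X.Over (Spec (CommRingCat.of k))] [IsProper (X ↘ Spec (CommRingCat.of k))]
    (hd : topologicalKrullDim X = 1) {L : X.Modules} (hL : PicF.IsInvertible L)
    (h : Curv2.euler k X (Coh.structureModule X) < Curv2.euler k X L) : CohB1.IsAmple L := by
  haveI := Groth.L21.RR.isNoetherian_of_proper (X := X) k
  refine Groth.L22.Nakai.isAmple_of_integral k hL Nat.one_pos (by simpa using hd) (fun C i _ _ hne => ?_) ?_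
  · obtain ⟨z, hz⟩ := Groth.L21.CurveTop.exists_eq_singleton hd.le i.isClosedEmbedding.isClosed_range
      (by rw [← Set.image_univ]; exact (IrreducibleSpace.isIrreducible_univ C).image _ i.continuous.continuousOn)
      hne
    haveI : Subsingleton ↥C := ⟨fun a b => i.isClosedEmbedding.injective
      ((Set.eq_of_mem_singleton (hz.subset ⟨a, rfl⟩)).trans (Set.eq_of_mem_singleton (hz.subset ⟨b, rfl⟩)).symm)⟩
    obtain ⟨_, ⟨U, hU, rfl⟩, hx, -⟩ :=
      C.isBasis_affineOpens.exists_subset_of_mem_open (Set.mem_univ (genericPoint C)) isOpen_univ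
    have hUtop : U = ⊤ := top_le_iff.1 fun c _ => by
      rw [Subsingleton.elim c (genericPoint C)]
      exact hx
    haveI : IsAffine (⊤ : C.Opens).toScheme := hUtop ▸ hU
    haveI : IsAffine C := IsAffine.of_isIso C.topIso.inv
    exact Groth.L18.Ample.isAmple_of_isQuasiAffine (Groth.L18.Ample.isInvertible_pullback i hL)
  · rw [Groth.L22.Nef.altT_one]
    rw [Groth.L03.Euler.euler_iso (Groth.L00.Tensor.tensorUnitLeft L)]
    exact_mod_cast sub_pos.2 h

/-- The differentials of a fibre of a smooth family of irreducible curves of genus at least two are ample. -/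
theorem isAmple_fiber_omega {X S : Scheme.{u}} (f : X ⟶ S) [IsProper f] [Smooth f] (s : S)
    [ConnectedSpace ↥(f.fiber s)] (hd : topologicalKrullDim ↥(f.fiber s) = 1)
    (hΩ : PicF.IsInvertible (Omega.sheaf f))
    (hg : (2 : ℤ) ≤ 1 - (CohIII.fiberRank f (Coh.structureModule X) 0 s : ℤ) +
      CohIII.fiberRank f (Coh.structureModule X) 1 s) :
    CohB1.IsAmple ((Scheme.Modules.pullback (f.fiberι s)).obj (Omega.sheaf f)) := by
  letI : (f.fiber s).Over (Spec (CommRingCat.of (S.residueField s))) := ⟨f.fiberToSpecResidueField s⟩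
  haveI : IsProper (f.fiber s ↘ Spec (CommRingCat.of (S.residueField s))) :=
    inferInstanceAs (IsProper (pullback.snd f _))
  haveI : Smooth (f.fiber s ↘ Spec (CommRingCat.of (S.residueField s))) :=
    inferInstanceAs (Smooth (pullback.snd f _))
  haveI := isIntegral_fiber f s
  haveI := Groth.L21.RR.isNoetherian_of_proper (X := f.fiber s) (S.residueField s)
  obtain ⟨e⟩ := nonempty_fiber_omega_iso f s
  refine isAmple_of_euler_lt (S.residueField s) hd (Groth.L18.Ample.isInvertible_pullback _ hΩ) ?_
  have hO : ∀ p, CohIII.fiberRank f (Coh.structureModule X) p s =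
      Groth.L21.RR.h (S.residueField s) p (Coh.structureModule (f.fiber s)) := fun p =>
    Groth.L21.RR.h_congr (S.residueField s) (Groth.L29.LocFree.pullbackUnitIso (f.fiberι s)) p
  rw [hO 0, hO 1] at hg
  obtain ⟨h0, h1, -⟩ := Groth.L21.Duality.omega_invariants (k := S.residueField s) (X := f.fiber s) hd
  rw [Groth.L21.RR.euler_eq (S.residueField s) hd.le, Groth.L21.RR.euler_eq (S.residueField s) hd.le,
    Groth.L21.RR.h_congr (S.residueField s) e 0, Groth.L21.RR.h_congr (S.residueField s) e 1]
  rw [show Groth.L21.RR.h (S.residueField s) 0 (Omega.sheaf (f.fiberToSpecResidueField s)) = _ from h0,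
    show Groth.L21.RR.h (S.residueField s) 1 (Omega.sheaf (f.fiberToSpecResidueField s)) = _ from h1]
  omega

end Groth.L12.CurveFam
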