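import Groth.Agent.L12.CurveFam.FibVA.Main
import Groth.Agent.L12.CurveFam.FibVA.FieldForm
import Groth.Agent.L00.VeryAmpleBase
import Groth.Agent.L16.Existence.AmpleVanish
import Groth.Agent.L18.PBundle.Ample
import Groth.Agent.L18.RelAmpleLocal
import Groth.Agent.L18.AmpleOps
import Groth.Agent.L18.AmplePull

/-!
# Relative ampleness from the fibres of a flat family
-/

set_option autoImplicit false
set_option linter.style.haveILetI false
set_option linter.unusedSectionVars false
set_option backward.isDefEq.respectTransparency false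
set_option backward.isDefEq.respectTransparency.types false

universe u

open CategoryTheory CategoryTheory.Limits AlgebraicGeometry TopologicalSpace Opposite

noncomputable section

namespace Groth.L12.CurveFam

variable {X S : Scheme.{u}} (f : X ⟶ S) [IsProper f] [LocallyOfFinitePresentation f]

/-- A high power of an ample line bundle on a fibre is very ample and acyclic. -/
theorem exists_pow_va_of_fiber_ample (L : X.Modules) (hL : PicF.IsInvertible L) (s : S)
    (h : CohB1.IsAmple ((Scheme.Modules.pullback (f.fiberι s)).obj L)) :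
    ∃ N : ℕ, 0 < N ∧ (∃ (n : ℕ) (i : f.fiber s ⟶ Groth.L18.PUP.P n (S.residueField s)), IsImmersion i ∧
      i ≫ Groth.L18.PUP.pr n (S.residueField s) = f.fiberToSpecResidueField s ∧
      Nonempty ((Scheme.Modules.pullback i).obj (Groth.L18.PUP.O1 n (S.residueField s)) ≅
        CohIII.fiberMod f (CohB1.tensorPow L N) s)) ∧
      Subsingleton (CohIII.fiberH f (CohB1.tensorPow L N) s 1) := by
  letI : (f.fiber s).Over (Spec (CommRingCat.of (S.residueField s))) := ⟨f.fiberToSpecResidueField s⟩
  haveI : IsProper (f.fiber s ↘ Spec (CommRingCat.of (S.residueField s))) :=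
    inferInstanceAs (IsProper (pullback.snd f _))
  haveI : IsProper (f.fiberToSpecResidueField s) := inferInstanceAs (IsProper (pullback.snd f _))
  haveI := Groth.L21.RR.isNoetherian_of_proper (X := f.fiber s) (S.residueField s)
  obtain ⟨d₀, hd₀⟩ := Groth.L16.Existence.exists_vanishing_of_isAmple (A := S.residueField s) h
    (M := Coh.structureModule (f.fiber s))
    (Groth.L16.ProperFinite.isCoh_of_isInvertible (Groth.L18.Ample.isInvertible_structureModule _))
  obtain ⟨N₀, hN₀⟩ := Groth.L00.VeryAmpleBase.exists_forall_isRelVeryAmplePn (f.fiberToSpecResidueField s) h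
  let N := max (max d₀ N₀) 1
  refine ⟨N, Nat.lt_of_lt_of_le Nat.one_pos (le_max_right _ _), ?_, ?_⟩
  · obtain ⟨n, i, hi, hw, ⟨e⟩⟩ := exists_pup_of_isRelVeryAmplePn (R := S.residueField s)
      (f.fiberToSpecResidueField s) (hN₀ N ((le_max_right _ _).trans (le_max_left _ _)))
    exact ⟨n, i, hi, hw, ⟨e ≪≫ (Groth.L18.Ample.pullPow (f.fiberι s) L N).symm⟩⟩
  · haveI := hd₀ N ((le_max_left _ _).trans (le_max_left _ _)) 1 Nat.one_pos
    let e := Groth.L00.Tensor.tensorUnitRight (CohB1.tensorPow ((Scheme.Modules.pullback (f.fiberι s)).obj L) N) ≪≫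
      (Groth.L18.Ample.pullPow (f.fiberι s) L N).symm
    exact Function.Injective.subsingleton (f := Groth.L16.CohLinear.hmap e.inv 1) (Function.LeftInverse.injective
      (g := Groth.L16.CohLinear.hmap e.hom 1) fun x => by
        rw [← Groth.L16.CohLinear.hmap_comp, e.inv_hom_id, Groth.L16.CohLinear.hmap_id])

/-- A line bundle ample on one fibre of a flat family is ample over a neighbourhood of the point. -/
theorem exists_nhd_isRelAmple [Flat f] (L : X.Modules) (hL : PicF.IsInvertible L) (s : S)
    (h : CohB1.IsAmple ((Scheme.Modules.pullback (f.fiberι s)).obj L)) :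
    ∃ V : S.Opens, s ∈ V ∧ RelAmple.IsRelAmple (f ∣_ V) (L.restrict (f ⁻¹ᵁ V).ι) := by
  obtain ⟨N, hN, hva, h1⟩ := exists_pow_va_of_fiber_ample f L hL s h
  obtain ⟨V, hsV, hV⟩ := exists_nhd_isRelVeryAmple f _ (Groth.L18.Ample.isInvertible_tensorPow hL N) s hva h1
  haveI : QuasiCompact (f ∣_ V) := IsZariskiLocalAtTarget.restrict (P := @QuasiCompact) inferInstance V
  have h2 := Groth.L18.PBundle.isRelAmple_of_isRelVeryAmple hV
  refine ⟨V, hsV, inferInstance, fun W => ?_⟩
  have hinv := Groth.L18.Ample.isInvertible_restrict (Groth.L18.Ample.isInvertible_restrict hL (f ⁻¹ᵁ V))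
    ((f ∣_ V) ⁻¹ᵁ W.1)
  rw [Groth.L18.Ample.isAmple_pow_iff hinv hN]
  exact Groth.L18.Ample.isAmple_of_iso
    ((Scheme.Modules.restrictFunctor _).mapIso (Groth.L00.Tensor.tensorPowRestrict _ L N).symm ≪≫
      (Groth.L00.Tensor.tensorPowRestrict _ _ N).symm) (h2.2 W)

/-- For a flat proper family of finite presentation relative ampleness is checked on the fibres. -/
theorem isRelAmple_of_fibres [Flat f] (L : X.Modules) (hL : PicF.IsInvertible L)
    (h : ∀ s : S, CohB1.IsAmple ((Scheme.Modules.pullback (f.fiberι s)).obj L)) : RelAmple.IsRelAmple f L := by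
  choose V hsV hV using fun s => exists_nhd_isRelAmple f L hL s (h s)
  exact Groth.L18.Ample.isRelAmple_of_cover f V (Opens.ext (Set.eq_univ_of_forall fun s =>
    Opens.mem_iSup.2 ⟨s, hsV s⟩)) hV

end Groth.L12.CurveFam
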