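import Groth.Agent.L12.CurveFam.FibVA.Main
import Groth.Agent.L18.PBundle.RefineLocal
import Groth.Agent.L18.PBundle.Embed
import Groth.Agent.L18.LocFreeFP

/-!
# Projectivity from very ampleness on the fibres
-/

set_option autoImplicit false
set_option linter.style.haveILetI false
set_option linter.unusedSectionVars false
set_option backward.isDefEq.respectTransparency false
set_option backward.isDefEq.respectTransparency.types false

universe u

open CategoryTheory CategoryTheory.Limits AlgebraicGeometry TopologicalSpace Opposite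

noncomputable section

namespace Groth.L12.CurveFam

open Groth.L18 Groth.L18.PBundle

variable {X S : Scheme.{u}} (f : X ⟶ S) [IsProper f] [LocallyOfFinitePresentation f]

/-- The direct image of a fibrewise acyclic line bundle is finite locally free. -/
theorem isFinLocFree_push_of_h1 [Flat f] (L : X.Modules) (hL : PicF.IsInvertible L)
    (h1 : ∀ s : S, Subsingleton (CohIII.fiberH f L s 1)) :
    FlatMod.IsFinLocFree ((Scheme.Modules.pushforward f).obj L) := by
  haveI := Groth.L17.PushQCoh.hasInjectiveResolutions X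
  have hE : FlatMod.IsFinLocFree L := Groth.L16.Existence.isFinLocFree_of_isInvertible hL
  haveI : Coh.IsQCoh L := Groth.L29.DC.PCQCoh.isQCoh_of_isFinLocFree hE
  have hfp : CohB1.IsFP L := Groth.L18.LFP.isFP_of_isFinLocFree _ hE
  have hfl : FlatMod.IsFlatOver f L :=
    Groth.L29.DC.RelTor.isFlatOver_of_isFlat f (Groth.L21.RR.isFlat_of_isInvertible hL)
  intro y
  obtain ⟨_, ⟨V, hV, rfl⟩, hyV, -⟩ :=
    S.isBasis_affineOpens.exists_subset_of_mem_open (Set.mem_univ y) isOpen_univ
  obtain ⟨g, l, -⟩ := Groth.L17.BC.Classes.exists_det f L hfp hfl hV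
  obtain ⟨Δ⟩ := Groth.L17.BC.Classes.nonempty_derivedLES f
  obtain ⟨W, hyW, hW, -⟩ := l.exists_locFree hV Δ hyV (l.split_of_vanishing hV hyV (h1 y))
  exact hW y hyW

/-- Projectivity of a flat proper family from a fibrewise very ample, acyclic line bundle. -/
theorem isProjective_of_fibres [Flat f] (L : X.Modules) (hL : PicF.IsInvertible L)
    (hva : ∀ s : S, ∃ (n : ℕ) (i : f.fiber s ⟶ Groth.L18.PUP.P n (S.residueField s)), IsImmersion i ∧
      i ≫ Groth.L18.PUP.pr n (S.residueField s) = f.fiberToSpecResidueField s ∧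
      Nonempty ((Scheme.Modules.pullback i).obj (Groth.L18.PUP.O1 n (S.residueField s)) ≅
        CohIII.fiberMod f L s))
    (h1 : ∀ s : S, Subsingleton (CohIII.fiberH f L s 1)) : RelProj.IsProjective f := by
  have hcov : ∀ y : S, ∃ U : S.Opens, y ∈ U ∧
      RelProj.IsRelVeryAmple (f ∣_ U) (L.restrict (f ⁻¹ᵁ U).ι) :=
    fun y => exists_nhd_isRelVeryAmple f L hL y (hva y) (h1 y)
  choose U hyU hva' using hcov
  haveI := Groth.L21.Extend.isQCoh_of_isInvertible hL
  haveI hQ : Coh.IsQCoh ((Scheme.Modules.pushforward f).obj L) := Groth.L16.QcqsPush.isQCoh_push L f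
  have hepi : Epi ((Scheme.Modules.pullbackPushforwardAdjunction f).counit.app L) :=
    counit_epi_of_gen f L fun x => exists_frame_of_restrict hL (hva' (f.base x)) x (hyU _)
  obtain ⟨P, p, chart, hP⟩ := RP.exists_isRelProj (SymSheaf.symGr ((Scheme.Modules.pushforward f).obj L))
  have hj := SymSheaf.isGrSymAlg ((Scheme.Modules.pushforward f).obj L)
  obtain ⟨O1, lam, hO1⟩ := exists_twist hP 1
  obtain ⟨φ, hφ⟩ := exists_taut hj hP hQ hO1
  obtain ⟨r, hr, hs⟩ := exists_morphism hj hQ hP hO1 hφ hL
    ((Scheme.Modules.pullbackPushforwardAdjunction f).counit.app L) hepi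
  have h1' : adjSec ((Scheme.Modules.pullbackPushforwardAdjunction f).counit.app L) =
      𝟙 ((Scheme.Modules.pushforward f).obj L) := by
    rw [adjSec, Adjunction.homEquiv_unit]
    exact (Scheme.Modules.pullbackPushforwardAdjunction f).right_triangle_components _
  obtain ⟨τ, hτ⟩ := hs
  have hs : Sol φ r hr (L := L) (𝟙 ((Scheme.Modules.pushforward f).obj L)) :=
    ⟨τ, fun V e => (hτ V e).trans (congrArg (Groth.L18.Frame.rs L _) (congr(($h1').app V e)))⟩
  haveI : IsImmersion r := isImmersion_of_forall_exists r fun x =>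
    exists_isImmersion_restrict (hva' (f.base x)) hQ hj hO1 hφ hs x (hyU _)
  haveI : IsSeparated p := RP.isSeparated hP
  haveI : IsProper r := by
    haveI : IsProper (r ≫ p) := by rw [hr]; infer_instance
    exact IsProper.of_comp r p
  haveI : IsClosedImmersion r := IsClosedImmersion.iff_isPreimmersion.2 ⟨inferInstance, r.isClosedMap.isClosed_range⟩
  haveI : CohB1.IsFP ((Scheme.Modules.pushforward f).obj L) :=
    Groth.L18.LFP.isFP_of_isFinLocFree _ (isFinLocFree_push_of_h1 f L hL h1)
  exact (isProjective_iff f).2 ⟨_, _, _, P, p, chart, r, hQ,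
    inferInstance, hj, hP, inferInstance, hr⟩

end Groth.L12.CurveFam
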