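import Groth.Agent.L17.BC.Model
import Groth.Agent.L17.BC.Criteria
import Groth.Agent.L19.VanishFibre.Noetherian

/-! For families of curves, projectivity of H^1 implies projectivity of H^0. -/

set_option autoImplicit false
set_option linter.style.haveILetI false
set_option linter.unusedSectionVars false
set_option backward.isDefEq.respectTransparency false

universe u

open CategoryTheory CategoryTheory.Limits AlgebraicGeometry TopologicalSpace Opposite

noncomputable section

namespace Groth.L12.CurveFam

open Groth.L17.BC Groth.L17.BC.Crit Groth.L01.FlatCx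

variable {A : Type u} [CommRing A] [IsNoetherianRing A] {L : CochainComplex (ModuleCat.{u} A) ℤ}
  (hL : ∀ i, Module.Finite A (L.X i) ∧ Module.Flat A (L.X i))

include hL in
/-- Flat homology in positive degrees gives flat cokernels in positive degrees. -/
theorem flat_coker_pos (b : ℤ) (hb : ∀ i, b < i → IsZero (L.X i))
    (hH : ∀ i, 0 < i → Module.Flat A (L.homology i : Type u)) {j : ℤ} (hj : 0 < j) :
    Module.Flat A (Coker L (j - 1) j) := by
  haveI := fun i => (hL i).2
  suffices ∀ (k : ℕ) (i : ℤ), 0 < i → b < i + k → Module.Flat A (Coker L (i - 1) i) from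
    this (b + 1 - j).toNat j hj (by omega)
  intro k
  induction k with
  | zero =>
    intro i _ hi
    haveI := ModuleCat.subsingleton_of_isZero (hb i (by omega))
    infer_instance
  | succ k ih =>
    intro i hi0 hi
    have hnext : Module.Flat A (Coker L i (i + 1)) := by
      have h := ih (i + 1) (by omega) (by omega)
      rwa [show i + 1 - 1 = i by omega] at h
    haveI : Module.Flat A (LinearMap.range (dd L i (i + 1))) :=
      flat_left (Submodule.injective_subtype _) (Submodule.mkQ_surjective _)
        (LinearMap.exact_iff.mpr ((Submodule.ker_mkQ _).trans (Submodule.range_subtype _).symm))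
    rw [flat_coker_iff L (prev_eq' i) (next_eq i)]
    haveI := hH i hi0
    exact Module.Flat.of_linearEquiv (unitEquiv L i)

include hL in
/-- The zeroth homology is projective when the higher ones are flat. -/
theorem projective_homology_zero (b : ℤ) (hb : ∀ i, b < i → IsZero (L.X i))
    (hneg : ∀ (M : ModuleCat.{u} A) (i : ℤ), i < 0 → IsZero (CohIII.T L i M))
    (hH : ∀ i, 0 < i → Module.Flat A (L.homology i : Type u)) :
    Module.Projective A (L.homology 0 : Type u) := by
  haveI := fun i => (hL i).1
  haveI := fun i => (hL i).2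
  haveI h1 : Module.Flat A (Coker L (0 : ℤ) 1) := by
    have := flat_coker_pos hL b hb hH (j := 1) one_pos
    rwa [sub_self] at this
  have hs : ∀ M, Subsingleton ((CohIII.TFun L (-1 : ℤ)).obj M) := fun M =>
    ModuleCat.subsingleton_of_isZero (hneg M (-1) (by norm_num))
  haveI h0 : Module.Flat A (Coker L (-1 : ℤ) 0) :=
    (preservesEpi_iff L (j := (-1 : ℤ)) (k := 0) (CochainComplex.next _ _) (by simp) fun i => (hL i).2).1
      ⟨fun {M N} g _ => (ModuleCat.epi_iff_surjective _).mpr fun c => ⟨0, (hs N).elim _ _⟩⟩
  haveI : Module.Finite A ((CohIII.TFun L (0 : ℤ)).obj (ModuleCat.of A A) : Type u) :=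
    finite_TFun_obj L 0 (ModuleCat.of A A)
  haveI : Module.Finite A (L.homology 0 : Type u) := Module.Finite.equiv (unitEquiv L (0 : ℤ))
  haveI : Module.FinitePresentation A (L.homology 0 : Type u) := Module.finitePresentation_of_finite A _
  rw [← Module.freeLocus_eq_univ_iff, Set.eq_univ_iff_forall]
  intro x
  have hfc : FreeC L (-1) x := by
    rw [FreeC, show ((-1 : ℤ) + 1) = 0 by norm_num]
    exact (Module.freeLocus_eq_univ (R := A) (M := Coker L (-1 : ℤ) 0)).ge (Set.mem_univ x)
  have hfc' : FreeC L ((-1 : ℤ) + 1) x := by
    rw [FreeC, show ((-1 : ℤ) + 1) = 0 by norm_num, zero_add]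
    exact (Module.freeLocus_eq_univ (R := A) (M := Coker L (0 : ℤ) 1)).ge (Set.mem_univ x)
  have h := (mem_freeLocus_homology L hL x hfc hfc').1
  rwa [show ((-1 : ℤ) + 1) = 0 by norm_num] at h

end Groth.L12.CurveFam
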