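import Groth.Agent.L12.CurveFam.FibVA.Main
import Groth.Agent.L12.CurveFam.Omega
import Groth.Agent.L07.PrinParts.GrSection
import Groth.Agent.L21.RR.PointPow
import Groth.Agent.L21.RR.TwoPoints
import Groth.Agent.L21.RR.Finite
import Groth.Agent.L21.Duality.Corollaries
import Groth.Agent.L21.Duality.Deg
import Groth.Agent.L11.SmRegular.Basic
import Groth.Agent.L17.BC.Bc0Apply
import Groth.Agent.L17.BC.Flattening
import Groth.Agent.L17.ThickBasic
import Groth.Agent.L22.EnrSev.Basic
import Groth.Agent.L20.ResDescent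

/-!
# The line bundle of a section of a family of curves
-/

set_option autoImplicit false
set_option linter.style.haveILetI false
set_option linter.unusedSectionVars false
set_option backward.isDefEq.respectTransparency false
set_option backward.isDefEq.respectTransparency.types false

universe u

open CategoryTheory CategoryTheory.Limits AlgebraicGeometry TopologicalSpace Opposite
open scoped TensorProduct

noncomputable section

namespace Groth.L12.CurveFam

open Groth.L18.Frame (IsFrame rs ro rs_rs rs_self rs_smul pull pull_smul pull_rs)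
open Groth.L18.GenLoc (tens tens_rs tens_smul_left tens_smul_right isFrame_tens secOf)
open Groth.L00.Tensor (tensorMap tensorUnitRight)

attribute [local instance] Curv2.resAlgebra

variable {X S : Scheme.{u}} (f : X ⟶ S)

/-- A section cuts out the section of each fibre. -/
theorem exists_fiber_section (x : S ⟶ X) (hx : x ≫ f = 𝟙 S) (s : S) :
    ∃ xs : Spec (S.residueField s) ⟶ f.fiber s, xs ≫ f.fiberToSpecResidueField s = 𝟙 _ ∧
      IsPullback xs (S.fromSpecResidueField s) (f.fiberι s) x := by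
  let j : f.fiber s ⟶ Spec (S.residueField s) := f.fiberToSpecResidueField s
  let xs : Spec (S.residueField s) ⟶ f.fiber s :=
    pullback.lift (S.fromSpecResidueField s ≫ x) (𝟙 _) (by rw [Category.assoc, hx, Category.comp_id, Category.id_comp])
  have h1 : xs ≫ f.fiberι s = S.fromSpecResidueField s ≫ x := pullback.lift_fst _ _ _
  have h2 : xs ≫ j = 𝟙 _ := pullback.lift_snd _ _ _
  refine ⟨xs, h2, IsPullback.of_right (h₁₂ := j) (v₁₃ := S.fromSpecResidueField s) (h₂₂ := f) ?_ h1
    (IsPullback.of_hasPullback f (S.fromSpecResidueField s)).flip⟩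
  rw [h2, hx]
  exact IsPullback.of_horiz_isIso ⟨by rw [Category.id_comp, Category.comp_id]⟩

variable [IsProper f] [Smooth f]

/-- A line bundle inverse to the ideal of a section has degree one on the fibres. -/
theorem deg_fiber_of_section (x : S ⟶ X) (hx : x ≫ f = 𝟙 S) {L : X.Modules} (hL : PicF.IsInvertible L)
    (hLx : Nonempty (CohB1.tensorMod L (ClSub.idealMod x.ker) ≅ Coh.structureModule X)) (s : S)
    [ConnectedSpace ↥(f.fiber s)] (hd : topologicalKrullDim ↥(f.fiber s) = 1) :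
    letI : (f.fiber s).Over (Spec (S.residueField s)) := ⟨f.fiberToSpecResidueField s⟩
    Curv2.deg (S.residueField s) (f.fiber s) (CohIII.fiberMod f L s) 1 = 1 := by
  letI : (f.fiber s).Over (Spec (CommRingCat.of (S.residueField s))) := ⟨f.fiberToSpecResidueField s⟩
  haveI : IsProper (f.fiber s ↘ Spec (CommRingCat.of (S.residueField s))) :=
    inferInstanceAs (IsProper (pullback.snd f _))
  haveI : Smooth (f.fiber s ↘ Spec (CommRingCat.of (S.residueField s))) :=
    inferInstanceAs (Smooth (pullback.snd f _))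
  haveI := isIntegral_fiber f s
  haveI := Groth.L21.RR.isNoetherian_of_proper (X := f.fiber s) (S.residueField s)
  haveI : IsClosedImmersion x :=
    haveI : IsClosedImmersion (x ≫ f) := by rw [hx]; infer_instance
    IsClosedImmersion.of_comp x f
  obtain ⟨xs, hxs, hsq⟩ := exists_fiber_section f x hx s
  haveI : IsClosedImmersion xs := MorphismProperty.of_isPullback (P := @IsClosedImmersion) hsq.flip inferInstance
  -- the ideal restricts to the ideal of the point
  have hmono := Groth.L07.PrinParts.mono_pullback_idealι_section f x hx (S.fromSpecResidueField s) (f.fiberι s)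
    (f.fiberToSpecResidueField s) (IsPullback.of_hasPullback f (S.fromSpecResidueField s)) 1
    fun k hk hk0 => absurd (Nat.lt_one_iff.1 hk) hk0
  rw [pow_one] at hmono
  obtain ⟨α, -, -, hα⟩ := Groth.L07.PrinParts.exists_idealMap (f.fiberι s) x.ker xs.ker
    (Groth.L17.Thick.ker_of_isPullback hsq)
  haveI := hα hmono
  let P : f.fiber s := xs (IsLocalRing.closedPoint (S.residueField s))
  have hall : ∀ q, xs q = P := fun q => congrArg _ (Subsingleton.elim (α := PrimeSpectrum (S.residueField s)) _ _)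
  have hP : IsClosed ({P} : Set (f.fiber s)) := by
    have h := xs.isClosedEmbedding.isClosed_range
    rwa [Set.range_eq_singleton hall] at h
  have hker := Groth.L21.RR.ker_eq_vanishingIdeal_point (S.residueField s) xs hP hall
  have hreg : IsRegularLocalRing ((f.fiber s).presheaf.stalk P) :=
    Groth.L21.Smooth.regular_stalk (f.fiber s ↘ Spec (CommRingCat.of (S.residueField s))) P
  obtain ⟨hI, he⟩ := Groth.L21.RR.idealMod_point_pow (S.residueField s) hd hP hreg 1
  rw [pow_one, ← hker] at hI he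
  have hrat' : Function.Surjective (Curv2.resMap (S.residueField s) (f.fiber s) P) := fun y => by
    obtain ⟨a, rfl⟩ := (f.fiber s).residue_surjective P y
    obtain ⟨c, hc⟩ := Groth.L21.RR.isRat_of_section (S.residueField s) xs hxs (IsLocalRing.closedPoint _) a
    refine ⟨c, ?_⟩
    have h2 : IsLocalRing.residue ((f.fiber s).presheaf.stalk P) (a - Groth.L21.RR.cstAt (S.residueField s) P c) = 0 :=
      (IsLocalRing.residue_eq_zero_iff _).2 hc
    rw [map_sub, sub_eq_zero] at h2
    exact h2.symm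
  have hrat : Module.finrank (S.residueField s) ((f.fiber s).residueField P) = 1 :=
    Groth.L21.RR.finrank_residueField_of_surjective _ hrat'
  obtain ⟨i⟩ := hLx
  have e : CohB1.tensorMod (CohIII.fiberMod f L s) (ClSub.idealMod xs.ker) ≅ Coh.structureModule (f.fiber s) :=
    Groth.L00.Tensor.tensorIso (Iso.refl _) (asIso α).symm ≪≫ Groth.L29.DC.PullTensor.pullTensor (f.fiberι s) L _ ≪≫
      (Scheme.Modules.pullback (f.fiberι s)).mapIso i ≪≫ Groth.L29.LocFree.pullbackUnitIso (f.fiberι s)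
  have h1 := Groth.L21.Duality.deg_tensor (k := S.residueField s) hd
    (Groth.L18.Ample.isInvertible_pullback (f.fiberι s) hL : PicF.IsInvertible (CohIII.fiberMod f L s)) hI
  rw [Groth.L21.RR.deg_congr (S.residueField s) e] at h1
  have h2 : Curv2.deg (S.residueField s) (f.fiber s) (Coh.structureModule (f.fiber s)) 1 = 0 := by
    rw [Curv2.deg]; push_cast; ring
  have h3 : Curv2.deg (S.residueField s) (f.fiber s) (ClSub.idealMod xs.ker) 1 = -1 := by
    rw [Curv2.deg, he, hrat]; push_cast; ring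
  rw [h2, h3] at h1
  linarith

/-- Frames adapted to a section: the canonical section of the line bundle cuts out the section. -/
theorem exists_section_frames (x : S ⟶ X) {L : X.Modules} (hL : PicF.IsInvertible L)
    (hLx : Nonempty (CohB1.tensorMod L (ClSub.idealMod x.ker) ≅ Coh.structureModule X)) :
    ∃ σ : Γ(L, ⊤), ∀ z : X, ∀ U : X.Opens, z ∈ U → ∃ (W : X.Opens) (hW : IsAffineOpen W) (e : Γ(L, W))
      (a : Γ(X, W)), z ∈ W ∧ W ≤ U ∧ IsFrame L W e ∧ a • e = rs L le_top σ ∧
        x.ker.ideal ⟨W, hW⟩ = Ideal.span {a} := by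
  obtain ⟨i⟩ := hLx
  let I := x.ker
  let one : Γ(Coh.structureModule X, ⊤) := Groth.L21.RR.oneSec X
  let θ := tensorMap (𝟙 L) (ClSub.idealModι I) ≫ (tensorUnitRight L).hom
  refine ⟨θ.app ⊤ (i.inv.app ⊤ one), fun z U hzU => ?_⟩
  have hI := Groth.L22.EnrSev.isInvertible_of_inverse hL i
  obtain ⟨W₁, e₁, hz₁, he₁⟩ := Groth.L18.Frame.exists_frame hL z
  obtain ⟨W₂, e₂, hz₂, he₂⟩ := Groth.L18.Frame.exists_frame hI z
  obtain ⟨_, ⟨W, hW, rfl⟩, hzW, hWle⟩ :=
    X.isBasis_affineOpens.exists_subset_of_mem_open (show z ∈ W₁ ⊓ W₂ ⊓ U from ⟨⟨hz₁, hz₂⟩, hzU⟩) (W₁ ⊓ W₂ ⊓ U).2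
  have hWle' : W ≤ W₁ ⊓ W₂ ⊓ U := hWle
  let e := rs L (hWle'.trans (inf_le_left.trans inf_le_left)) e₁
  have he : IsFrame L W e := he₁.mono _
  let g := rs (ClSub.idealMod I) (hWle'.trans (inf_le_left.trans inf_le_right)) e₂
  have hg : IsFrame (ClSub.idealMod I) W g := he₂.mono _
  have htens := isFrame_tens he hg
  have hone : IsFrame (CohB1.tensorMod L (ClSub.idealMod I)) W (i.inv.app W (rs (Coh.structureModule X) le_top one)) :=
    isFrame_map i.symm (by
      have h := Groth.L21.RR.isFrame_oneSec (X := X)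
      exact h.mono (le_top : W ≤ ⊤))
  obtain ⟨c, hc⟩ := htens.exists_coeff le_rfl (i.inv.app W (rs (Coh.structureModule X) le_top one))
  rw [rs_self] at hc
  have hu : IsUnit c := by
    rw [← hc] at hone
    exact Groth.L18.Frame.isUnit_of_isFrame htens hone
  let a₀ : Γ(X, W) := (ClSub.idealModι I).app W g
  refine ⟨W, hW, e, c * a₀, hzW, hWle'.trans inf_le_right, he, ?_, ?_⟩
  · have h1 : rs L (le_top : W ≤ ⊤) (θ.app ⊤ (i.inv.app ⊤ one)) =
        θ.app W (i.inv.app W (rs (Coh.structureModule X) le_top one)) := by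
      rw [Groth.L17.BC.PullSec.app_rs i.inv, Groth.L17.BC.PullSec.app_rs θ]
    rw [h1, ← hc, Scheme.Modules.Hom.app_smul, mul_smul]
    refine congrArg (c • ·) ?_
    show _ = (tensorUnitRight L).hom.app W
      ((tensorMap (𝟙 L) (ClSub.idealModι I)).app W (tens L (ClSub.idealMod I) W e g))
    rw [Groth.L18.Ample.tensorMap_tens]
    exact (Groth.L20.ResDescent.tensorUnitRight_app L W e a₀).symm
  · refine le_antisymm (fun b hb => ?_) ((Ideal.span_singleton_le_iff_mem _).2 ?_)
    · obtain ⟨m, rfl⟩ := (Groth.L18.IdealModule.mem_ideal_iff I hW b).1 hb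
      obtain ⟨r, hr⟩ := hg.exists_coeff le_rfl m
      rw [rs_self] at hr
      obtain ⟨c', hc'⟩ := hu.exists_left_inv
      refine Ideal.mem_span_singleton'.2 ⟨r * c', ?_⟩
      rw [← hr, Scheme.Modules.Hom.app_smul, show r * c' * (c * a₀) = r * (c' * c) * a₀ by ring, hc', mul_one]
      rfl
    · exact Ideal.mul_mem_left _ c ((Groth.L18.IdealModule.mem_ideal_iff I hW a₀).2 ⟨g, rfl⟩)


/-- The adapted section of a line bundle, up to the choice of frames. -/
def CutsOut (x : S ⟶ X) (L : X.Modules) (σ : Γ(L, ⊤)) : Prop :=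
  ∀ z : X, ∀ U : X.Opens, z ∈ U → ∃ (W : X.Opens) (hW : IsAffineOpen W) (e : Γ(L, W))
    (a : Γ(X, W)), z ∈ W ∧ W ≤ U ∧ IsFrame L W e ∧ a • e = rs L le_top σ ∧
      x.ker.ideal ⟨W, hW⟩ = Ideal.span {a}

/-- The restriction of a global section to a fibre. -/
def fsec (L : X.Modules) (σ : Γ(L, ⊤)) (s : S) : Γ(CohIII.fiberMod f L s, ⊤) :=
  pull (f.fiberι s) L ⊤ σ

/-- Base change in degree zero is surjective at a point where one section spans the fibre sections. -/
theorem epi_bc0_of_span (L : X.Modules) [Coh.IsQCoh L] {s : S} (σ : Γ(L, ⊤))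
    (h : ∀ y : Γ(CohIII.fiberMod f L s, ⊤), ∃ c : Γ(Spec (S.residueField s), ⊤),
      y = (f.fiberToSpecResidueField s).appTop c • fsec f L σ s) :
    Epi (CohBC.bc0 f (S.fromSpecResidueField s) (f.fiberToSpecResidueField s) (f.fiberι s) (f.fiber_fac s) L) := by
  let g := S.fromSpecResidueField s
  let f' := f.fiberToSpecResidueField s
  let bc := CohBC.bc0 f g f' (f.fiberι s) (f.fiber_fac s) L
  refine Groth.L17.Serre.epi_of_locally_surjective _ fun W x hx t => ?_
  obtain rfl : W = ⊤ := top_unique fun y _ =>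
    (Subsingleton.elim (α := PrimeSpectrum (S.residueField s)) x y) ▸ hx
  obtain ⟨c, hc⟩ := h t
  refine ⟨⊤, le_rfl, trivial, c • (show Γ((Scheme.Modules.pullback g).obj ((Scheme.Modules.pushforward f).obj L), ⊤) from
    pull g ((Scheme.Modules.pushforward f).obj L) ⊤ σ), ?_⟩
  refine (Scheme.Modules.Hom.app_smul bc c _).trans (Eq.trans ?_ (hc.symm.trans (rs_self _ le_rfl t).symm))
  refine congrArg (fun y : Γ(CohIII.fiberMod f L s, ⊤) => f'.appTop c • y) ?_
  refine (Groth.L17.BC.Classes.bc0_app_pull (f.fiber_fac s) L ⊤ σ).trans ?_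
  rw [Groth.L17.BC.Classes.bc0Adj_app (f.fiber_fac s) L ⊤ le_rfl σ]
  exact rs_self _ le_rfl _

/-- The canonical section of a section of the family does not vanish on any fibre. -/
theorem fiber_section_ne_zero (x : S ⟶ X) (hx : x ≫ f = 𝟙 S) {L : X.Modules} {σ : Γ(L, ⊤)}
    (hσ : CutsOut x L σ) (s : S) [ConnectedSpace ↥(f.fiber s)] (hd : topologicalKrullDim ↥(f.fiber s) = 1) :
    fsec f L σ s ≠ 0 := by
  haveI := isIntegral_fiber f s
  haveI : IsClosedImmersion x :=
    haveI : IsClosedImmersion (x ≫ f) := by rw [hx]; infer_instance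
    IsClosedImmersion.of_comp x f
  obtain ⟨xs, hxs, hsq⟩ := exists_fiber_section f x hx s
  haveI : IsClosedImmersion xs := MorphismProperty.of_isPullback (P := @IsClosedImmersion) hsq.flip inferInstance
  let ι := f.fiberι s
  let η : f.fiber s := genericPoint (f.fiber s)
  have hne : ι η ∉ Set.range x := by
    rintro ⟨s', hs'⟩
    have h1 : f (ι η) = s := by
      have h : ι η ∈ f ⁻¹' {s} := by rw [← f.range_fiberι]; exact ⟨η, rfl⟩
      exact h
    have h2 : s' = s := by
      rw [← h1, ← hs', ← Scheme.Hom.comp_apply, hx]; rfl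
    subst h2
    let P : f.fiber s' := xs (IsLocalRing.closedPoint (S.residueField s'))
    have hP : ι P = x s' := by
      rw [← Scheme.Hom.comp_apply, hsq.w, Scheme.Hom.comp_apply, Scheme.fromSpecResidueField_apply]
    have hηP : η = P := ι.isEmbedding.injective (hs'.symm.trans hP.symm)
    have hall : ∀ q, xs q = P := fun q =>
      congrArg _ (Subsingleton.elim (α := PrimeSpectrum (S.residueField s')) _ _)
    have hcl : IsClosed ({η} : Set (f.fiber s')) := by
      have h := xs.isClosedEmbedding.isClosed_range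
      rwa [Set.range_eq_singleton hall, ← hηP] at h
    haveI : Subsingleton (f.fiber s') := ⟨fun a b => by
      have h : ∀ a, a = η := fun a => by
        have : a ∈ closure ({η} : Set (f.fiber s')) := by
          rw [(genericPoint_spec (f.fiber s')).def]; trivial
        rwa [hcl.closure_eq] at this
      rw [h a, h b]⟩
    haveI : DiscreteTopology (f.fiber s') := inferInstance
    have h := topologicalKrullDim_zero_of_discreteTopology ↥(f.fiber s')
    rw [hd] at h
    exact absurd h (by decide)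
  let U₀ : X.Opens := ⟨(Set.range x)ᶜ, x.isClosedEmbedding.isClosed_range.isOpen_compl⟩
  obtain ⟨W, hW, e, a, hzW, hWU, he, hae, hker⟩ := hσ (ι η) U₀ hne
  have hbot : x ⁻¹ᵁ W = ⊥ := by
    ext q
    exact iff_of_false (fun hq => hWU hq ⟨q, rfl⟩) id
  have ha : IsUnit a := by
    have h1 : (1 : Γ(X, W)) ∈ x.ker.ideal ⟨W, hW⟩ := by
      rw [Scheme.Hom.ker_apply, RingHom.mem_ker]
      haveI : Subsingleton Γ(S, x ⁻¹ᵁ W) := by rw [hbot]; infer_instance
      exact Subsingleton.elim _ _
    rw [hker, Ideal.mem_span_singleton] at h1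
    exact isUnit_of_dvd_one h1
  intro h0
  have hf := (he.smul_unit ha).pullback ι
  rw [hae, ← pull_rs ι] at hf
  change IsFrame _ _ (rs ((Scheme.Modules.pullback ι).obj L) (le_top : ι ⁻¹ᵁ W ≤ ⊤) (fsec f L σ s)) at hf
  rw [h0] at hf
  haveI : Nonempty (ι ⁻¹ᵁ W : (f.fiber s).Opens) := ⟨⟨η, hzW⟩⟩
  refine one_ne_zero (α := Γ(f.fiber s, ι ⁻¹ᵁ W)) (hf.inj le_rfl ?_)
  simp [rs]

/-- On the fibres the direct image of the line bundle of a section has rank one. -/
theorem fiber_span_of_section [GeometricallyConnected f]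
    (x : S ⟶ X) (hx : x ≫ f = 𝟙 S) {L : X.Modules} (hL : PicF.IsInvertible L)
    (hLx : Nonempty (CohB1.tensorMod L (ClSub.idealMod x.ker) ≅ Coh.structureModule X))
    {σ : Γ(L, ⊤)} (hσ : CutsOut x L σ) (s : S) (hd : topologicalKrullDim ↥(f.fiber s) = 1)
    (hg : 1 ≤ CohIII.fiberRank f (Coh.structureModule X) 1 s) :
    CohIII.fiberRank f L 0 s = 1 ∧ ∀ y : Γ(CohIII.fiberMod f L s, ⊤), ∃ c : Γ(Spec (S.residueField s), ⊤),
      y = (f.fiberToSpecResidueField s).appTop c • fsec f L σ s := by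
  let k : Type u := S.residueField s
  let j : f.fiber s ⟶ Spec (CommRingCat.of k) := f.fiberToSpecResidueField s
  letI : (f.fiber s).Over (Spec (CommRingCat.of k)) := ⟨j⟩
  haveI : IsProper j := inferInstanceAs (IsProper (Limits.pullback.snd f _))
  haveI : IsProper (f.fiber s ↘ Spec (CommRingCat.of k)) := ‹IsProper j›
  haveI : Smooth j := inferInstanceAs (Smooth (Limits.pullback.snd f _))
  haveI : GeometricallyConnected j := inferInstanceAs (GeometricallyConnected (Limits.pullback.snd f _))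
  haveI := Groth.Agent.AV.geometricallyReduced_of_smooth j
  haveI : ConnectedSpace ↥(f.fiber s) := GeometricallyConnected.connectedSpace_of_subsingleton j
  haveI := isIntegral_fiber f s
  haveI := Groth.L21.RR.isNoetherian_of_proper (X := f.fiber s) k
  have hLs : PicF.IsInvertible (CohIII.fiberMod f L s) := Groth.L18.Ample.isInvertible_pullback (f.fiberι s) hL
  have hdeg : Curv2.deg k (f.fiber s) (CohIII.fiberMod f L s) 1 = 1 := deg_fiber_of_section f x hx hL hLx s hd
  have h0 : Groth.L21.RR.h k 0 (Coh.structureModule (f.fiber s)) = 1 :=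
    Groth.L08.Cube.finrank_HH_zero_structure j (Groth.L08.Cube.bijective_toGlobal_of_geometric j)
  have hg' : 1 ≤ Groth.L21.RR.h k 1 (Coh.structureModule (f.fiber s)) := by
    rw [fiberRank_one_eq_genus f s] at hg
    exact hg
  have hle : (Groth.L21.RR.h k 0 (CohIII.fiberMod f L s) : ℤ) ≤ 1 :=
    (Groth.L21.Duality.h0_le_deg hd.le h0 hg' hLs (by rw [hdeg]; norm_num)).trans hdeg.le
  haveI : Module.Finite k (Coh.HH (f.fiber s) (CohIII.fiberMod f L s) 0) :=
    Groth.L21.RR.finite_HH' k (Groth.L18.Ample.isCoh_of_isInvertible hLs) 0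
  let e₀ := Groth.L21.RR.e0 (CohIII.fiberMod f L s)
  let x₀ := e₀.symm (fsec f L σ s)
  have hx₀ : x₀ ≠ 0 := fun h => fiber_section_ne_zero f x hx hσ s hd (by
    rw [← e₀.apply_symm_apply (fsec f L σ s)]
    exact (congrArg e₀ h).trans (map_zero _))
  have hrank : Module.finrank k (Coh.HH (f.fiber s) (CohIII.fiberMod f L s) 0) = 1 := by
    have h1 : Module.finrank k (Coh.HH (f.fiber s) (CohIII.fiberMod f L s) 0) ≤ 1 := by exact_mod_cast hle
    haveI : Nontrivial (Coh.HH (f.fiber s) (CohIII.fiberMod f L s) 0) := nontrivial_of_ne _ _ hx₀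
    have h2 := Module.finrank_pos (R := k) (M := Coh.HH (f.fiber s) (CohIII.fiberMod f L s) 0)
    omega
  refine ⟨hrank, fun y => ?_⟩
  obtain ⟨c, hc⟩ := exists_smul_eq_of_finrank_eq_one hrank hx₀ (e₀.symm y)
  refine ⟨(Scheme.ΓSpecIso (CommRingCat.of k)).inv c, ?_⟩
  have h := congrArg e₀ hc
  rw [Groth.L21.RR.e0_smul, e₀.apply_symm_apply, e₀.apply_symm_apply] at h
  exact h.symm

/-- The direct image of the line bundle of a section of a family of curves of positive genus is
invertible, and framed by the section. -/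
theorem push_section_spec [GeometricallyConnected f]
    (hdim : ∀ s : S, topologicalKrullDim ↥(f.fiber s) = 1)
    (hg : ∀ s : S, 1 ≤ CohIII.fiberRank f (Coh.structureModule X) 1 s)
    (x : S ⟶ X) (hx : x ≫ f = 𝟙 S) {L : X.Modules} (hL : PicF.IsInvertible L)
    (hLx : Nonempty (CohB1.tensorMod L (ClSub.idealMod x.ker) ≅ Coh.structureModule X))
    {σ : Γ(L, ⊤)} (hσ : CutsOut x L σ) :
    PicF.IsInvertible ((Scheme.Modules.pushforward f).obj L) ∧ ∀ s : S, ∃ V : S.Opens, s ∈ V ∧
      IsFrame ((Scheme.Modules.pushforward f).obj L) V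
        (rs ((Scheme.Modules.pushforward f).obj L) (le_top : V ≤ ⊤) σ) := by
  haveI := Groth.L17.PushQCoh.hasInjectiveResolutions X
  have hE : FlatMod.IsFinLocFree L := Groth.L16.Existence.isFinLocFree_of_isInvertible hL
  haveI : Coh.IsQCoh L := Groth.L29.DC.PCQCoh.isQCoh_of_isFinLocFree hE
  have hfp : CohB1.IsFP L := Groth.L18.LFP.isFP_of_isFinLocFree _ hE
  have hfl : FlatMod.IsFlatOver f L :=
    Groth.L29.DC.RelTor.isFlatOver_of_isFlat f (Groth.L21.RR.isFlat_of_isInvertible hL)
  have hspan := fun s => fiber_span_of_section f x hx hL hLx hσ s (hdim s) (hg s)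
  have hr1 : FlatMod.IsFinLocFreeOfRank 1 ((Scheme.Modules.pushforward f).obj L) := fun s => by
    have hepi := epi_bc0_of_span f L σ (hspan s).2
    obtain ⟨Δ⟩ := Groth.L17.BC.Classes.nonempty_derivedLES f
    obtain ⟨V, hV, l, hsV⟩ := Groth.L17.BC.Classes.exists_freeBC0 f L hfp hfl s
    obtain ⟨W, hsW, hW, -⟩ := l.exists_locFree hV Δ hsV ((Groth.L17.BC.Classes.epi_bc0_iff_split hV l hsV).1 hepi)
    obtain ⟨U, n, hsU, ⟨i⟩⟩ := hW s hsW
    obtain ⟨_, ⟨V', hV', rfl⟩, hsV', hV'U⟩ :=
      S.isBasis_affineOpens.exists_subset_of_mem_open (show s ∈ U from hsU) U.2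
    obtain ⟨l'⟩ := Groth.L17.BC.Classes.nonempty_freeBC0 f L hV' hfp hfl
    have h1 := l'.fiberRank_eq_of_restrict hV' hV'U i hsV'
      ((Groth.L17.BC.Classes.epi_bc0_iff_split hV' l' hsV').1 hepi)
    rw [(hspan s).1] at h1
    exact ⟨U, hsU, ⟨h1 ▸ i⟩⟩
  have hinv : PicF.IsInvertible ((Scheme.Modules.pushforward f).obj L) := fun y => by
    obtain ⟨U, hy, ⟨φ⟩⟩ := hr1 y
    exact ⟨U, hy, ⟨φ ≪≫ Limits.coproductUniqueIso (fun _ : Fin 1 => Coh.structureModule U.toScheme)⟩⟩
  refine ⟨hinv, fun s => ?_⟩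
  obtain ⟨W, ε, hsW, hε⟩ := Groth.L18.Frame.exists_frame hinv s
  obtain ⟨a, ha⟩ := hε.exists_coeff le_rfl (rs ((Scheme.Modules.pushforward f).obj L) (le_top : W ≤ ⊤) σ)
  rw [rs_self] at ha
  have hsa : s ∈ S.basicOpen a := by
    by_contra hsa
    haveI : GeometricallyConnected (f.fiberToSpecResidueField s) :=
      inferInstanceAs (GeometricallyConnected (Limits.pullback.snd f _))
    haveI : ConnectedSpace ↥(f.fiber s) :=
      GeometricallyConnected.connectedSpace_of_subsingleton (f.fiberToSpecResidueField s)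
    apply fiber_section_ne_zero f x hx hσ s (hdim s)
    let g := S.fromSpecResidueField s
    have hgW : ⊤ ≤ g ⁻¹ᵁ W := fun q _ => by
      show g q ∈ W
      rwa [Scheme.fromSpecResidueField_apply]
    have h0 : g.app W a = 0 := by
      refine (basicOpen_eq_bot_iff _).1 ?_
      rw [← Scheme.preimage_basicOpen]
      ext q
      refine iff_of_false (fun hq => hsa ?_) id
      have : g q ∈ S.basicOpen a := hq
      rwa [Scheme.fromSpecResidueField_apply] at this
    have h1 : (f.fiberι s).app (f ⁻¹ᵁ W) (f.app W a) =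
        (f.fiberToSpecResidueField s).appLE (g ⁻¹ᵁ W) (f.fiberι s ⁻¹ᵁ (f ⁻¹ᵁ W))
          (by rw [← Scheme.Hom.comp_preimage, ← Scheme.Hom.comp_preimage, f.fiber_fac s]) (g.app W a) := by
      have := congr($(Scheme.Hom.congr_app (f.fiber_fac s) W).hom a)
      simpa [Scheme.Hom.comp_app, Scheme.Hom.appLE] using! this
    rw [h0, map_zero] at h1
    have h2 := congrArg (fun y => pull (f.fiberι s) L (f ⁻¹ᵁ W) y) ha
    rw [show a • ε = (f.app W a • (show Γ(L, f ⁻¹ᵁ W) from ε) : Γ(L, f ⁻¹ᵁ W)) from rfl] at h2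
    simp only [pull_smul, h1, zero_smul] at h2
    have hle : (⊤ : (f.fiber s).Opens) ≤ f.fiberι s ⁻¹ᵁ (f ⁻¹ᵁ W) := fiberι_preimage_le f hsW
    have h3 := congrArg (fun y => rs ((Scheme.Modules.pullback (f.fiberι s)).obj L) hle y) h2
    simp only [map_zero] at h3
    change _ = rs _ hle (pull (f.fiberι s) L (f ⁻¹ᵁ W) (rs L (le_top : f ⁻¹ᵁ W ≤ ⊤) σ)) at h3
    rw [← pull_rs (f.fiberι s)] at h3
    refine (h3.trans ?_).symm
    exact (rs_rs _ _ _ _).trans (rs_self _ le_rfl _)
  let V : S.Opens := S.basicOpen a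
  refine ⟨V, hsa, ?_⟩
  have hVW : V ≤ W := S.basicOpen_le a
  have hu : IsUnit (ro hVW a) := RingedSpace.isUnit_res_basicOpen _ a
  have := (hε.mono hVW).smul_unit hu
  rwa [← rs_smul, ha, rs_rs] at this

/-- A section of a family of curves of positive genus is determined by its line bundle. -/
theorem section_unique [GeometricallyConnected f]
    (hdim : ∀ s : S, topologicalKrullDim ↥(f.fiber s) = 1)
    (hg : ∀ s : S, 1 ≤ CohIII.fiberRank f (Coh.structureModule X) 1 s)
    (x x' : S ⟶ X) (hx : x ≫ f = 𝟙 S) (hx' : x' ≫ f = 𝟙 S) {L : X.Modules} (hL : PicF.IsInvertible L)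
    (hLx : Nonempty (CohB1.tensorMod L (ClSub.idealMod x.ker) ≅ Coh.structureModule X))
    (hLx' : Nonempty (CohB1.tensorMod L (ClSub.idealMod x'.ker) ≅ Coh.structureModule X)) : x' = x := by
  obtain ⟨σ, hσ⟩ := exists_section_frames x hL hLx
  obtain ⟨σ', hσ'⟩ := exists_section_frames x' hL hLx'
  haveI : IsClosedImmersion x :=
    haveI : IsClosedImmersion (x ≫ f) := by rw [hx]; infer_instance
    IsClosedImmersion.of_comp x f
  have hker : ∀ z : X, ∃ W : X.affineOpens, z ∈ W.1 ∧ x.ker.ideal W = x'.ker.ideal W := fun z => by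
    obtain ⟨V, hsV, hV⟩ := (push_section_spec f hdim hg x hx hL hLx hσ).2 (f z)
    obtain ⟨V', hsV', hV'⟩ := (push_section_spec f hdim hg x' hx' hL hLx' hσ').2 (f z)
    let V₀ := V ⊓ V'
    have h₁ := hV.mono (inf_le_left : V₀ ≤ V)
    have h₂ := hV'.mono (inf_le_right : V₀ ≤ V')
    rw [rs_rs] at h₁ h₂
    obtain ⟨c, hc⟩ := h₁.exists_coeff le_rfl (rs ((Scheme.Modules.pushforward f).obj L) (le_top : V₀ ≤ ⊤) σ')
    rw [rs_self] at hc
    have hcu : IsUnit c := Groth.L18.Frame.isUnit_of_isFrame h₁ (by rwa [hc])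
    obtain ⟨W₁, hW₁, e₁, a₁, hz₁, hle₁, he₁, ha₁, hk₁⟩ := hσ z (f ⁻¹ᵁ V₀) ⟨hsV, hsV'⟩
    obtain ⟨W₂, hW₂, e₂, a₂, hz₂, hle₂, he₂, ha₂, hk₂⟩ := hσ' z W₁ hz₁
    refine ⟨⟨W₂, hW₂⟩, hz₂, ?_⟩
    obtain ⟨u, hu⟩ := (he₁.mono hle₂).exists_coeff le_rfl e₂
    rw [rs_self] at hu
    have hu' : IsUnit u := Groth.L18.Frame.isUnit_of_isFrame (he₁.mono hle₂) (by rwa [hu])
    have hle : W₂ ≤ f ⁻¹ᵁ V₀ := hle₂.trans hle₁
    let d : Γ(X, W₂) := ro hle (f.app V₀ c)
    have hd : IsUnit d := (hcu.map (f.app V₀).hom).map (X.presheaf.map (homOfLE hle).op).hom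
    have h3 : d • rs L (le_top : W₂ ≤ ⊤) σ = rs L (le_top : W₂ ≤ ⊤) σ' := by
      have h := congrArg (fun y => rs L hle y) hc
      change rs L hle (f.app V₀ c • rs L (le_top : f ⁻¹ᵁ V₀ ≤ ⊤) σ) = rs L hle (rs L le_top σ') at h
      rwa [rs_smul, rs_rs, rs_rs] at h
    have h4 : (d * ro hle₂ a₁) • rs L hle₂ e₁ = (a₂ * u) • rs L hle₂ e₁ := by
      rw [mul_smul, ← rs_smul, ha₁, rs_rs, h3, mul_smul, hu, ha₂]
    have h5 := (he₁.mono hle₂).inj le_rfl (a := d * ro hle₂ a₁) (b := a₂ * u) (by rw [rs_self]; exact h4)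
    have h6 : x.ker.ideal ⟨W₂, hW₂⟩ = Ideal.span {ro hle₂ a₁} := by
      rw [← x.ker.map_ideal (U := ⟨W₂, hW₂⟩) (V := ⟨W₁, hW₁⟩) hle₂, hk₁, Ideal.map_span, Set.image_singleton]
      rfl
    rw [h6, hk₂, ← Ideal.span_singleton_mul_left_unit hd, h5, Ideal.span_singleton_mul_right_unit hu']
  choose W hzW hW using hker
  have hk : x.ker = x'.ker :=
    Scheme.IdealSheafData.ext_of_iSup_eq_top W (top_unique fun z _ => Opens.mem_iSup.2 ⟨z, hzW z⟩) hW
  let g : S ⟶ S := IsClosedImmersion.lift x x' hk.le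
  have hg' : g ≫ x = x' := IsClosedImmersion.lift_fac x x' hk.le
  have : g = 𝟙 S := by
    rw [← hx', ← hg', Category.assoc, hx, Category.comp_id]
  rw [← hg', this, Category.id_comp]

end Groth.L12.CurveFam
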